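import Cfsg.Agent.H200.STwo.Surv
import Cfsg.Agent.S2468

/-!
# `²D₄(q)`, `q` even: sections of Lie type in characteristic two (helper200)

`D4 k L G` : `L = ²D₄(2^k)`, `G` has the same element orders.

* `survivors_four` : `S` is `L₄(q²)`, `C₄(q)` or `²D₄(q)`;
* `kill_psl_four`, `kill_psp_four`;
* `main_four` : `S = ²D₄(q)`.
-/

set_option autoImplicit false

namespace Cfsg.Agent.H200.STwo.Four

open Module Cfsg Matrix QuadraticMap
open Cfsg.Agent.OrdDiv Cfsg.Agent.H436 Cfsg.Agent.H425.PartP Cfsg.Agent.H425.Chr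
open Cfsg.Agent.LieClassical.OrthCount Cfsg.Agent.LieClassical.OmegaReindex Cfsg.Agent.LieClassical
open Cfsg.Agent.H403

universe u v

/-- `L = ²D₄(2^k)`, `G` has the same element orders -/
structure D4 (k : ℕ) (L : Type u) [Group L] (G : Type v) [Group G] : Prop where
  hk : 1 ≤ k
  hL : H426.LieFam.Fam.Is 2 k L (.ominus 4)
  hsp : ∀ m : ℕ, (∃ g : G, orderOf g = m) ↔ ∃ g : L, orderOf g = m

variable {k : ℕ} {L : Type u} [Group L] {G : Type v} [Group G]

theorem fac_four (D : D4 k L G) : Fac L 2 k 4 (KM 4) := by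
  obtain ⟨-, F, _, _, _, a, b, hF, hab, ⟨e⟩⟩ := D.hL
  exact (fac_ominus Nat.prime_two D.hk hF le_rfl hab).congr e

/-- the primes of class 8, 6, 3 over `q` are not adjacent to two -/
theorem two_four (D : D4 k L G) {c w : ℕ} (hc : c = 8 ∨ c = 6 ∨ c = 3) (hw : Prim (2 ^ k) c w) :
    ¬ ∃ g : L, orderOf g = 2 * w := by
  obtain ⟨-, F, _, _, _, a, b, hF, hab, ⟨e⟩⟩ := D.hL
  have h2 := two_zero (F := F) hF
  have ho : orderOf ((Nat.card F : ℕ) : ZMod w) = c := by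
    rw [Nat.card_eq_fintype_card, hF]
    exact orderOf_prim (Nat.one_le_pow _ _ (by norm_num)) hw
  have hw2 : w ≠ 2 := by
    have := hw.odd (by omega)
    omega
  have hwF := natCast_ne_zero Nat.prime_two hF hw.prime hw2
  have hdim : finrank F ((Fin (4 - 1) ⊕ Fin (4 - 1)) ⊕ Fin 2 → F) = 2 * 4 := by
    rw [finrank_fintype_fun_eq_card]
    simp
  have key : ¬ ∃ g : POmega F ⇑(quadMinus (4 - 1) F a b), orderOf g = 2 * w := by
    rintro ⟨g, hg⟩
    rcases hc with h | h | h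
    · exact Cfsg.Agent.H150.gen_full_even h2 (quadMinus (4 - 1) F a b) (quadMinus_nondegenerate hab) hdim
        (Cfsg.Agent.H150.quadMinus_sing (by omega) a b) hw.prime hw2 hwF (by omega) ho
        (Or.inr ⟨⟨4, by omega⟩, by omega⟩) g hg
    · exact Cfsg.Agent.H150.gen_partial_even h2 (quadMinus (4 - 1) F a b) (quadMinus_nondegenerate hab) hdim
        (Cfsg.Agent.H150.quadMinus_sing (by omega) a b) hw.prime hw2 hwF (by omega) ho
        (Or.inr ⟨⟨3, by omega⟩, by omega⟩) g hg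
    · exact Cfsg.Agent.H150.gen_partial_even h2 (quadMinus (4 - 1) F a b) (quadMinus_nondegenerate hab) hdim
        (Cfsg.Agent.H150.quadMinus_sing (by omega) a b) hw.prime hw2 hwF (by omega) ho
        (Or.inl ⟨⟨1, by omega⟩, by omega⟩) g hg
  rw [coe_quadMinus] at key
  rintro ⟨g, hg⟩
  exact key ⟨e g, by rw [MulEquiv.orderOf_eq]; exact hg⟩

section

variable [Finite L] [Finite G] {K : Subgroup G} [K.Normal] {S : Subgroup (G ⧸ K)}

/-- a prime not adjacent to two divides `|S|` -/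
theorem dvd_of_two (hsp : ∀ m : ℕ, (∃ g : G, orderOf g = m) ↔ ∃ g : L, orderOf g = m) (R : S88.Fr K S)
    (hA : ¬ (Nonempty (↥S ≃* alternatingGroup (Fin 7)) ∨
      ∃ (F : Type) (_ : Field F) (_ : Fintype F), Odd (Fintype.card F) ∧
        Nonempty (↥S ≃* Matrix.ProjectiveSpecialLinearGroup (Fin 2) F))) {w : ℕ} (hw : w.Prime) (hw2 : w ≠ 2)
    (hwL : w ∣ Nat.card L) (h : ¬ ∃ g : L, orderOf g = 2 * w) : w ∣ Nat.card ↥S := by
  have hwG : w ∣ Nat.card G := (dvd_iff_of hsp hw).2 hwL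
  rcases R.two with h1 | h1
  · exact absurd h1 hA
  · obtain ⟨h1, h2⟩ := h1 w hw hw2 hwG (fun h1 => h ((hsp _).1 h1))
    exact dvd_sec hw hwG fun h => (hw.dvd_mul.1 h).elim h1 h2

theorem in_four (D : D4 k L G) (R : S88.Fr K S)
    (hA : ¬ (Nonempty (↥S ≃* alternatingGroup (Fin 7)) ∨
      ∃ (F : Type) (_ : Field F) (_ : Fintype F), Odd (Fintype.card F) ∧
        Nonempty (↥S ≃* Matrix.ProjectiveSpecialLinearGroup (Fin 2) F))) {c : ℕ} (hc : c = 8 ∨ c = 6 ∨ c = 3)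
    (h6 : c * k ≠ 6) : In 2 (Nat.card ↥S) (c * k) := by
  have hk := D.hk
  have h3 : 3 * 1 ≤ c * k := Nat.mul_le_mul (by omega) hk
  obtain ⟨w, hw⟩ := exists_prim_two Nat.prime_two (e := c * k) (by omega) h6
  refine ⟨w, hw, dvd_of_two D.hsp R hA hw.prime (prim_ne_two hw (by omega)) ?_ ?_⟩
  · exact (fac_four D).dvd_of hw (by omega) (by unfold KM; omega)
  · exact two_four D hc (prim_of_pow (by omega) (by rwa [mul_comm] at hw))

/-- **The survivors.** -/
theorem survivors_four (D : D4 k L G) (R : S88.Fr K S) (hl : IsLieTypeChar 2 ↥S)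
    (hA : ¬ (Nonempty (↥S ≃* alternatingGroup (Fin 7)) ∨
      ∃ (F : Type) (_ : Field F) (_ : Fintype F), Odd (Fintype.card F) ∧
        Nonempty (↥S ≃* Matrix.ProjectiveSpecialLinearGroup (Fin 2) F))) :
    H426.LieFam.Fam.Is 2 (2 * k) ↥S (.psl 4) ∨ H426.LieFam.Fam.Is 2 k ↥S (.psp 4) ∨
      H426.LieFam.Fam.Is 2 k ↥S (.ominus 4) := by
  obtain ⟨fam, f, d, N, hIs, hSh⟩ := H426.LieFam.exists_fam Nat.prime_two hl
  have H := dat_of_is Nat.prime_two hSh.f_pos hIs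
  have P : SideF 2 k (Nat.card ↥S) := (sec_of D.hsp R).sideF (fac_four D) (fun d _ h => by unfold KM at h; omega)
    (in_four D R hA (Or.inl rfl) (by omega)) (fun h => in_four D R hA (Or.inr (Or.inl rfl)) (by omega))
    (fun h => in_four D R hA (Or.inr (Or.inr rfl)) (by omega))
  rcases P.main H with h | ⟨rfl, h | h | h⟩
  · obtain ⟨rfl, rfl⟩ := fam_of_nm Nat.prime_two (b := .psl 4) h
    exact Or.inl hIs
  · obtain ⟨-, rfl⟩ := fam_of_nm Nat.prime_two (b := .psp 4) h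
    exact Or.inr (Or.inl hIs)
  · exfalso
    obtain ⟨-, rfl⟩ := fam_of_nm Nat.prime_two (b := .oodd 4) h
    obtain ⟨-, ho, -⟩ := hIs
    have h1 := D.hk
    have h2 : 2 ∣ 2 ^ f := dvd_pow_self 2 (by omega)
    rw [Nat.odd_iff] at ho
    omega
  · obtain ⟨-, rfl⟩ := fam_of_nm Nat.prime_two (b := .ominus 4) h
    exact Or.inr (Or.inr hIs)

/-- orders of elements of a section -/
theorem exists_of_sect {N : ℕ} (h : ∃ x : ↥S, orderOf x = N) : ∃ y : G, orderOf y = N := by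
  obtain ⟨x, hx⟩ := h
  obtain ⟨g, hg⟩ := QuotientGroup.mk_surjective (x : G ⧸ K)
  have h1 : orderOf (g : G ⧸ K) = N := by rw [hg, Subgroup.orderOf_coe, hx]
  have h2 : N ∣ orderOf g := by
    rw [← h1]
    exact orderOf_map_dvd (QuotientGroup.mk' K) g
  have h3 : 0 < orderOf g := orderOf_pos g
  have hN : N ≠ 0 := by
    rintro rfl
    rw [zero_dvd_iff] at h2
    omega
  refine ⟨g ^ (orderOf g / N), ?_⟩
  rw [orderOf_pow_of_dvd (Nat.div_pos (Nat.le_of_dvd h3 h2) (Nat.pos_of_ne_zero hN)).ne' (Nat.div_dvd_of_dvd h2),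
    Nat.div_div_self h2 h3.ne']

omit [Finite L] in
/-- `S` is not `C₄(q)`: elements of order `2 w`, `w` of class three -/
theorem kill_psp_four (D : D4 k L G) (hS : H426.LieFam.Fam.Is 2 k ↥S (.psp 4)) : False := by
  have hk := D.hk
  have hq2 : 2 ≤ 2 ^ k := Nat.le_self_pow (by omega) 2
  obtain ⟨w, hw⟩ := exists_prim (q := 2 ^ k) (e := 3) hq2 le_rfl (by omega)
  have hw2 : w ≠ 2 := by
    have := hw.odd (by omega)
    omega
  obtain ⟨-, -, F, _, _, _, hF, ⟨i⟩⟩ := hS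
  have h4 : den (.psp 4 (2 ^ k)) * Nat.card (PSp 4 F) = num (.psp 4 (2 ^ k)) := by
    rw [← hF]
    exact psp_eq (by norm_num)
  have hwS : w ∣ Nat.card (PSp 4 F) := by
    refine (dvd_iff hq2 le_rfl hw (g := .psp 4 (2 ^ k)) rfl h4).2 ?_
    rw [K_psp (by norm_num)]
    omega
  have h2 : Fact (Nat.Prime 2) := ⟨Nat.prime_two⟩
  have h1 := (not_iff_not.2 (Cfsg.Agent.S2472.result (F := F) 2 4 (by norm_num) (by norm_num) w hw.prime hw2 hw2 hwS 3 3
    (by rw [hF]; exact (orderOf_prim (by omega) hw).symm) (Or.inl ⟨by decide, rfl⟩))).2 (by norm_num)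
  rw [not_not] at h1
  obtain ⟨x, hx⟩ := h1
  have hx' : orderOf x = w * 2 := hx
  obtain ⟨y, hy⟩ := exists_of_sect (G := G) (K := K) (S := S) (N := w * 2)
    ⟨i.symm x, by rw [MulEquiv.orderOf_eq, hx']⟩
  obtain ⟨z, hz⟩ := (D.hsp _).1 ⟨y, hy⟩
  exact two_four D (Or.inr (Or.inr rfl)) hw ⟨z, by rw [hz, mul_comm]⟩

omit [Finite L] in
/-- `S` is not `L₄(q²)`: elements of order `r s`, `r` of class eight, `s` of class four -/
theorem kill_psl_four (D : D4 k L G) (hS : H426.LieFam.Fam.Is 2 (2 * k) ↥S (.psl 4)) : False := by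
  have hk := D.hk
  have hq2 : 2 ≤ 2 ^ k := Nat.le_self_pow (by omega) 2
  have hF4 := fac_four D
  obtain ⟨r, hr⟩ := exists_prim (q := 2 ^ k) (e := 8) hq2 (by norm_num) (by omega)
  obtain ⟨s, hs⟩ := exists_prim (q := 2 ^ k) (e := 4) hq2 (by norm_num) (by omega)
  have hr2 : r ≠ 2 := by
    have := hr.odd (by omega)
    omega
  have hs2 : s ≠ 2 := by
    have := hs.odd (by omega)
    omega
  have hrs : r ≠ s := by
    rintro rfl
    have := hr.unique hs
    omega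
  obtain ⟨-, -, F, _, _, _, hF, ⟨i⟩⟩ := hS
  have hsq : (2 ^ k) ^ 2 = 2 ^ (2 * k) := by rw [← pow_mul, mul_comm]
  have hr4 : Prim (2 ^ (2 * k)) 4 r := by
    rw [← hsq]
    exact prim_of_pow (by norm_num) hr
  have hs4 : Prim (2 ^ (2 * k)) 2 s := by
    rw [← hsq]
    exact prim_of_pow (by norm_num) hs
  have hq1 : 1 ≤ 2 ^ (2 * k) := Nat.one_le_pow _ _ (by norm_num)
  obtain ⟨d, N, hsh⟩ := H426.LieFam.sh_psl (F := F) (f := 2 * k) (by omega) hF (n := 4) (by omega) Nat.prime_two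
  have hdiv : ∀ v e : ℕ, Prim (2 ^ (2 * k)) e v → 5 ≤ v → e ∣ 4 →
      v ∣ Nat.card (Matrix.ProjectiveSpecialLinearGroup (Fin 4) F) := by
    intro v e hv h5 he
    refine hsh.dvd_of_fac hv.prime h5 (x := .sub 4) ?_ (hv.dvd he)
    change H414.LieShape.Fac.sub 4 ∈ (List.range (4 - 1)).map fun i => H414.LieShape.Fac.sub (i + 2)
    rw [List.mem_map]
    exact ⟨2, List.mem_range.2 (by norm_num), rfl⟩
  have hr5 : 5 ≤ r := by
    have := H426.LieFam.Prim_lt hr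
    omega
  have hs5 : 5 ≤ s := by
    have := H426.LieFam.Prim_lt hs
    omega
  have h2 : Fact (Nat.Prime 2) := ⟨Nat.prime_two⟩
  have h1 := (not_iff_not.2 (Cfsg.Agent.S2468.result (F := F) 2 4 (by norm_num) (by norm_num) s r hs.prime hr.prime hs2
    hr2 hs2 hr2 hrs.symm (hdiv s 2 hs4 hs5 (by norm_num)) (hdiv r 4 hr4 hr5 dvd_rfl) 2 4
    (by rw [hF]; exact (orderOf_prim hq1 hs4).symm) (by rw [hF]; exact (orderOf_prim hq1 hr4).symm) le_rfl
    (by norm_num))).2 (by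
      rintro ⟨-, h⟩
      exact h (by norm_num))
  rw [not_not] at h1
  obtain ⟨x, hx⟩ := h1
  have hx' : orderOf x = s * r := hx
  obtain ⟨y, hy⟩ := exists_of_sect (G := G) (K := K) (S := S) (N := s * r)
    ⟨i.symm x, by rw [MulEquiv.orderOf_eq, hx']⟩
  obtain ⟨z, hz⟩ := (D.hsp _).1 ⟨y, hy⟩
  refine hF4.na r s 8 4 4 2 hr.prime hs.prime (orderOf_prim (by omega) hr) (orderOf_prim (by omega) hs) hrs
    (by norm_num) (by norm_num) (Or.inr ⟨by decide, by norm_num⟩) (Or.inr ⟨by decide, by norm_num⟩) (by norm_num)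
    (by norm_num) (by norm_num) ?_ z (by rw [hz, mul_comm])
  rintro ⟨t, ⟨c, hc⟩, ht⟩
  omega

omit [Finite L] in
theorem dvd_L (D : D4 k L G) {c w : ℕ} (hw : Prim (2 ^ k) c w) (hc : 3 ≤ c) (hK : KM 4 c) : w ∣ Nat.card L := by
  have hk := D.hk
  have hq2 : 2 ≤ 2 ^ k := Nat.le_self_pow (by omega) 2
  obtain ⟨-, F, _, _, _, a, b, hF, hab, ⟨e⟩⟩ := D.hL
  rw [Nat.card_congr e.toEquiv]
  have h1 := ominus_eq (F := F) (m := 4) le_rfl hab
  rw [hF] at h1
  refine (dvd_iff hq2 hc hw (g := .ominus 4 (2 ^ k)) rfl h1).2 ?_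
  rw [K_ominus (by omega) (by omega)]
  exact hK

/-- of the classes 8, 4, 3 two occur in `|S|` -/
theorem three_four (D : D4 k L G) (R : S88.Fr K S) : ∃ r s u : ℕ, r.Prime ∧ s.Prime ∧ u.Prime ∧ 9 ≤ r ∧ 7 ≤ s ∧
    u % 4 = 1 ∧ (r ∣ Nat.card ↥S ∨ s ∣ Nat.card ↥S) ∧ (r ∣ Nat.card ↥S ∨ u ∣ Nat.card ↥S) := by
  have hk := D.hk
  have hq2 : 2 ≤ 2 ^ k := Nat.le_self_pow (by omega) 2
  have hF4 := fac_four D
  have Q := sec_of D.hsp R
  obtain ⟨r, hr⟩ := exists_prim (q := 2 ^ k) (e := 8) hq2 (by norm_num) (by omega)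
  obtain ⟨s, hs⟩ := exists_prim (q := 2 ^ k) (e := 3) hq2 (by norm_num) (by omega)
  obtain ⟨u, hu⟩ := exists_prim (q := 2 ^ k) (e := 4) hq2 (by norm_num) (by omega)
  have hrs : r ≠ s := by
    rintro rfl
    have := hr.unique hs
    omega
  have hru : r ≠ u := by
    rintro rfl
    have := hr.unique hu
    omega
  have hsu : s ≠ u := by
    rintro rfl
    have := hs.unique hu
    omega
  have h8 := orderOf_prim (by omega) hr
  have h3 := orderOf_prim (by omega) hs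
  have h4 := orderOf_prim (by omega) hu
  have i8 : H390.NonAdj.IsEta 8 4 := Or.inr ⟨by decide, by norm_num⟩
  have i4 : H390.NonAdj.IsEta 4 2 := Or.inr ⟨by decide, by norm_num⟩
  have i3 : H390.NonAdj.IsEta 3 3 := Or.inl ⟨by decide, rfl⟩
  have n1 : ¬ ∃ g : L, orderOf g = r * s := by
    rintro ⟨g, hg⟩
    refine hF4.na r s 8 3 4 3 hr.prime hs.prime h8 h3 hrs (by norm_num) (by norm_num) i8 i3 (by norm_num) (by norm_num)
      (by norm_num) ?_ g hg
    rintro ⟨t, ⟨c, hc⟩, ht⟩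
    omega
  have n2 : ¬ ∃ g : L, orderOf g = r * u := by
    rintro ⟨g, hg⟩
    refine hF4.na r u 8 4 4 2 hr.prime hu.prime h8 h4 hru (by norm_num) (by norm_num) i8 i4 (by norm_num) (by norm_num)
      (by norm_num) ?_ g hg
    rintro ⟨t, ⟨c, hc⟩, ht⟩
    omega
  have n3 : ¬ ∃ g : L, orderOf g = s * u := by
    rintro ⟨g, hg⟩
    refine hF4.na s u 3 4 3 2 hs.prime hu.prime h3 h4 hsu (by norm_num) (by norm_num) i3 i4 (by norm_num) (by norm_num)
      (by norm_num) ?_ g hg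
    rintro ⟨t, ⟨c, hc⟩, ht⟩
    omega
  have n3' : ¬ ∃ g : L, orderOf g = u * s := by rwa [mul_comm]
  have dr : r ∣ Nat.card L := dvd_L D hr (by norm_num) (by unfold KM; omega)
  have ds : s ∣ Nat.card L := dvd_L D hs (by norm_num) (by unfold KM; omega)
  have du : u ∣ Nat.card L := dvd_L D hu (by norm_num) (by unfold KM; omega)
  have g8 := H426.LieFam.Prim_lt hr
  have g3 := H426.LieFam.Prim_dvd_pred hs
  have g3' := H426.LieFam.Prim_lt hs
  have g4 := H426.LieFam.Prim_dvd_pred hu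
  have g4' := H426.LieFam.Prim_lt hu
  have hs4 : s ≠ 4 := by
    rintro rfl
    exact absurd hs.prime (by norm_num)
  refine ⟨r, s, u, hr.prime, hs.prime, hu.prime, by omega, by omega, by omega, ?_, ?_⟩
  · exact Q.coc r s u hr.prime hs.prime hu.prime dr ds du hrs hru hsu n1 n2 n3
  · exact Q.coc r u s hr.prime hu.prime hs.prime dr du ds hru hrs hsu.symm n2 n1 n3'

end

end Cfsg.Agent.H200.STwo.Four
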