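import Cfsg.Agent.H420.Reduce
import Cfsg.Agent.H228.E3Kill
import Cfsg.Agent.H75.LDat
import Cfsg.Agent.H75.LQTwo
import Cfsg.Agent.H403.S88.Def
import Cfsg.Agent.H200.STwo.Four

/-!
# Glue for the elimination of the classical groups of odd characteristic (helper200, for helper228)

* `redL_of_red` : `H420.QR.Red` gives `H228.E3.RedL`;
* `sameOrd_of_dat`, `sameOrd_of_four`;
* `ldat_of_dat`, `ldat_of_four` : the data of `L`.
-/

set_option autoImplicit false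
set_option linter.unusedSectionVars false

namespace Cfsg.Agent.H200.STwo.E3Glue

open Subgroup Cfsg
open Cfsg.Agent.H72.WGr (OCoc)
open Cfsg.Agent.H228.E3
open Cfsg.Agent.H403

universe u v

theorem Coq5.congr {S : Type u} {T : Type v} [Group S] [Group T] (e : S ≃* T) {C : Finset ℕ} (h : Coq5 T C) :
    Coq5 S C := ⟨h.1.congr e.symm, h.2⟩

theorem ord_congr {S : Type u} {T : Type v} [Group S] [Group T] (e : S ≃* T) {n : ℕ} (h : ∃ x : S, orderOf x = n) :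
    ∃ x : T, orderOf x = n := by
  obtain ⟨x, hx⟩ := h
  exact ⟨e x, by rw [MulEquiv.orderOf_eq, hx]⟩

theorem ldat_congr {S : Type u} {T : Type v} [Group S] [Group T] (e : S ≃* T) (h : LDat T) : LDat S := by
  obtain ⟨A, hA, h4, h⟩ := h
  refine ⟨A, Coq5.congr e hA, fun a ha hx => h4 a ha (ord_congr e hx), ?_⟩
  rcases h with h | ⟨h3, hB, M, hM, hAM⟩
  · exact Or.inl h
  · refine Or.inr ⟨h3, fun r hr => ?_, M, fun x => ?_, hAM⟩
    · obtain ⟨B, hB1, hB2, hB3⟩ := hB r hr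
      exact ⟨B, Coq5.congr e hB1, hB2, hB3⟩
    · rw [← MulEquiv.orderOf_eq e x]
      exact hM _

theorem lq_congr {S : Type u} {T : Type v} [Group S] [Group T] (e : S ≃* T) {A P U : Finset ℕ} (h : LQ2 T A P U) :
    LQ2 S A P U := by
  obtain ⟨h1, h2, h3, h4⟩ := h
  refine ⟨Coq5.congr e h1, fun r hr hd => h2 r hr (by rwa [← Nat.card_congr e.toEquiv]), fun t ht => ?_, fun x => ?_⟩
  · obtain ⟨h5, h6⟩ := h3 t ht
    exact ⟨by rwa [Nat.card_congr e.toEquiv], fun hx => h6 (ord_congr e hx)⟩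
  · rw [← MulEquiv.orderOf_eq e x]
    exact h4 _

/-- the light form of the reduction -/
theorem redL_of_red {G : Type u} [Group G] {K : Subgroup G} [K.Normal] {S : Subgroup (G ⧸ K)} [S.Normal]
    (R : H420.QR.Red G K S) : RedL G K S where
  simple := R.simple
  nonab := R.nonab
  cent := R.cent
  coc' := fun ρ hρ => R.coc' ρ ⟨hρ.prime, hρ.dvd, hρ.nadj⟩

theorem sameOrd_of_dat {p n k : ℕ} {T : S88.Ty} {L : Type u} [Group L] {G : Type v} [Group G]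
    (D : S88.Dat p T n k L G) : SameOrd G L := D.hsp

theorem sameOrd_of_four {k : ℕ} {L : Type u} [Group L] {G : Type v} [Group G] (D : Four.D4 k L G) : SameOrd G L := D.hsp

theorem two_pow_eq {k : ℕ} (h : 2 ^ k = 2) : k = 1 := Nat.pow_right_injective le_rfl (by simpa using h)

theorem ldat_ominus {k n : ℕ} {L : Type u} [Group L] (hn : 4 ≤ n) (hL : H426.LieFam.Fam.Is 2 k L (.ominus n)) :
    LDat L ∨ (k = 1 ∧ n = 5 ∧ LQ2 L {7, 11, 17} {2, 3, 5, 7, 11, 17} {11, 17}) ∨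
      (k = 1 ∧ n = 4 ∧ LQ2 L {5, 7, 17} {2, 3, 5, 7, 17} {17}) := by
  obtain ⟨-, F, _, _, _, a, b, hF, hab, ⟨e⟩⟩ := hL
  by_cases h : Nat.card F = 2 ∧ n ≤ 5
  · obtain ⟨h1, h2⟩ := h
    have hk : k = 1 := two_pow_eq (by rw [← hF, ← Nat.card_eq_fintype_card]; exact h1)
    have h3 : n = 5 ∨ n = 4 := by omega
    rcases h3 with rfl | rfl
    · exact Or.inr (Or.inl ⟨hk, rfl, lq_congr e (H75.LDat.lq_minus_five h1 hab)⟩)
    · exact Or.inr (Or.inr ⟨hk, rfl, lq_congr e (H75.LDat.lq_minus_four h1 hab)⟩)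
  · left
    exact ldat_congr e (H75.LDat.ldat_minus hn (fun h1 => by by_contra hc; exact h ⟨h1, by omega⟩) hab)

theorem ldat_oplus {k n : ℕ} {L : Type u} [Group L] (hn : 5 ≤ n) (hL : H426.LieFam.Fam.Is 2 k L (.oplus n)) :
    LDat L ∨ (k = 1 ∧ n = 5 ∧ LQ2 L {7, 17, 31} {2, 3, 5, 7, 17, 31} {17, 31}) := by
  obtain ⟨-, F, _, _, _, hF, ⟨e⟩⟩ := hL
  by_cases h : Nat.card F = 2 ∧ n ≤ 5
  · obtain ⟨h1, h2⟩ := h
    have hk : k = 1 := two_pow_eq (by rw [← hF, ← Nat.card_eq_fintype_card]; exact h1)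
    obtain rfl : n = 5 := by omega
    exact Or.inr ⟨hk, rfl, lq_congr e (H75.LDat.lq_plus_five h1)⟩
  · left
    exact ldat_congr e (H75.LDat.ldat_plus hn (fun h1 => by by_contra hc; exact h ⟨h1, by omega⟩))

theorem ldat_psp {k n : ℕ} {L : Type u} [Group L] (hn : 5 ≤ n) (hL : H426.LieFam.Fam.Is 2 k L (.psp n)) : LDat L := by
  obtain ⟨-, -, F, _, _, _, hF, ⟨e⟩⟩ := hL
  exact ldat_congr e (H75.LDat.ldat_psp hn)

theorem not_oodd {k n : ℕ} {L : Type u} [Group L] (hk : 1 ≤ k) (hL : H426.LieFam.Fam.Is 2 k L (.oodd n)) : False := by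
  obtain ⟨-, h, -⟩ := hL
  exact Nat.not_odd_iff_even.2 (Nat.even_pow.2 ⟨even_two, by omega⟩) h

/-- **the data of `L`**, rank at least five -/
theorem ldat_of_dat {n k : ℕ} {T : S88.Ty} {L : Type u} [Group L] {G : Type v} [Group G] (D : S88.Dat 2 T n k L G) :
    LDat L ∨ (k = 1 ∧ n = 5 ∧ T = .pl ∧ LQ2 L {7, 17, 31} {2, 3, 5, 7, 17, 31} {17, 31}) ∨
      (k = 1 ∧ n = 5 ∧ T = .mi ∧ LQ2 L {7, 11, 17} {2, 3, 5, 7, 11, 17} {11, 17}) := by
  have hn := D.hn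
  cases T with
  | c => exact Or.inl (ldat_psp hn D.hL)
  | b => exact absurd D.hL (not_oodd D.hk)
  | pl =>
    rcases ldat_oplus hn D.hL with h | ⟨h1, h2, h3⟩
    · exact Or.inl h
    · exact Or.inr (Or.inl ⟨h1, h2, rfl, h3⟩)
  | mi =>
    rcases ldat_ominus (by omega) D.hL with h | ⟨h1, h2, h3⟩ | ⟨-, h2, -⟩
    · exact Or.inl h
    · exact Or.inr (Or.inr ⟨h1, h2, rfl, h3⟩)
    · omega

/-- **the data of `L`**, `L = Ω⁻_8(2^k)` -/
theorem ldat_of_four {k : ℕ} {L : Type u} [Group L] {G : Type v} [Group G] (D : Four.D4 k L G) :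
    LDat L ∨ (k = 1 ∧ LQ2 L {5, 7, 17} {2, 3, 5, 7, 17} {17}) := by
  rcases ldat_ominus le_rfl D.hL with h | ⟨-, h2, -⟩ | ⟨h1, -, h3⟩
  · exact Or.inl h
  · omega
  · exact Or.inr ⟨h1, h3⟩

end Cfsg.Agent.H200.STwo.E3Glue
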