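import Cfsg.Agent.H200.STwo.Surv
import Cfsg.Agent.H425.KStep
import Cfsg.Agent.ONan.Count
import Cfsg.Agent.S2124
import Cfsg.Agent.H934.OutB
import Cfsg.Agent.H163.PG.Ord

/-!
# `E₇(q)` as a section, all `q` (helper200)

* `exists_dvd` : an element of order `l ^ k` of `GL_n(q)` : `l ^ k ∣ q ^ d - 1` for some `1 ≤ d ≤ n` (helper425);
* `e7_noncyclic` : the Sylow `l`-subgroups of `E₇(q)` are not cyclic, `l` primitive of class three;
* `kill_e7` : `S ≠ E₇(q)` in `S88`: primes of class 16 divide `|K|`, then they are adjacent to the primes of class 3.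
-/

set_option autoImplicit false

namespace Cfsg.Agent.H200.STwo.ESeven

open Cfsg Subgroup Module
open Cfsg.Agent.OrdDiv Cfsg.Agent.H436 Cfsg.Agent.H425.Chr Cfsg.Agent.H425.PartP
open Cfsg.Agent.H403

universe u v

/-- a nontrivial power of an element of order `l ^ (k + 1)` has the power `u ^ l ^ k` as a power -/
theorem exists_pow_eq {A : Type*} [Group A] {l k : ℕ} (hl : l.Prime) {a s : A} (ha : orderOf a = l ^ (k + 1))
    (hs : s ∈ zpowers a) (hs1 : s ≠ 1) : ∃ j : ℕ, s ^ j = a ^ l ^ k := by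
  have hfin : IsOfFinOrder a := orderOf_pos_iff.1 (by rw [ha]; exact Nat.pow_pos hl.pos)
  obtain ⟨i, hi⟩ := (hfin.mem_powers_iff_mem_zpowers).2 hs
  change a ^ i = s at hi
  have hi0 : i ≠ 0 := by
    rintro rfl
    rw [pow_zero] at hi
    exact hs1 hi.symm
  obtain ⟨e, m, hm, him⟩ := Nat.exists_eq_pow_mul_and_not_dvd hi0 l hl.ne_one
  have he : e ≤ k := by
    by_contra hlt
    push Not at hlt
    apply hs1
    rw [← hi, ← orderOf_dvd_iff_pow_eq_one, ha, him]
    exact Dvd.dvd.mul_right (pow_dvd_pow l hlt) m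
  have hco : Nat.Coprime m (l ^ (k + 1)) := Nat.Coprime.pow_right _ ((Nat.Prime.coprime_iff_not_dvd hl).2 hm).symm
  obtain ⟨c, hc⟩ := Nat.exists_mul_mod_eq_one_of_coprime hco (Nat.one_lt_pow (by omega) hl.one_lt)
  refine ⟨c * l ^ (k - e), ?_⟩
  have h1 : i * (c * l ^ (k - e)) = (m * c) * l ^ k := by
    have h2 : l ^ k = l ^ e * l ^ (k - e) := by rw [← pow_add, Nat.add_sub_cancel' he]
    rw [him, h2]
    ring
  rw [← hi, ← pow_mul, h1]
  have h3 : (m * c) ≡ 1 [MOD orderOf a] := by
    rw [ha]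
    change m * c % l ^ (k + 1) = 1 % l ^ (k + 1)
    rw [hc.2, Nat.mod_eq_of_lt (Nat.one_lt_pow (by omega) hl.one_lt)]
  have h4 : a ^ (m * c) = a := by
    have h5 := (pow_eq_pow_iff_modEq (x := a) (m := 1) (n := m * c)).2 h3
    rw [h5, pow_one]
  rw [pow_mul, h4]

/-- elements of prime power order of `GL(V)` -/
theorem exists_dvd {F V : Type*} [Field F] [Finite F] [AddCommGroup V] [Module F V] [FiniteDimensional F V] {l k : ℕ}
    (hl : l.Prime) (hlF : (l : F) ≠ 0) {a : (Module.End F V)ˣ} (ha : orderOf a = l ^ (k + 1)) :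
    ∃ d, 1 ≤ d ∧ d ≤ finrank F V ∧ l ^ (k + 1) ∣ Nat.card F ^ d - 1 := by
  have : Finite V := Module.finite_of_finite F
  set z : (Module.End F V)ˣ := a ^ l ^ k with hz
  have hz1 : z ≠ 1 := by
    intro h
    have h1 := orderOf_dvd_of_pow_eq_one h
    rw [ha] at h1
    have h2 := Nat.le_of_dvd (Nat.pow_pos hl.pos) h1
    exact absurd h2 (not_le.2 (Nat.pow_lt_pow_right hl.one_lt (Nat.lt_succ_self k)))
  have hzl : z ^ l = 1 := by rw [hz, ← pow_mul, ← pow_succ, ← ha, pow_orderOf_eq_one]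
  set W : Submodule F V := LinearMap.range ((z : Module.End F V) - 1) with hW
  have hfix : ∀ w ∈ W, (z : Module.End F V) w = w → w = 0 := by
    rintro _ ⟨v, rfl⟩ h
    set w := ((z : Module.End F V) - 1) v with hw
    have h1 : ∀ i : ℕ, ((z : Module.End F V) ^ i) v = v + (i : F) • w := by
      intro i
      induction i with
      | zero => simp
      | succ i ih =>
        have h2 : ((z : Module.End F V)) v = v + w := by
          rw [hw, LinearMap.sub_apply, Module.End.one_apply]
          abel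
        rw [pow_succ', Module.End.mul_apply, ih, map_add, map_smul, h2, h]
        push_cast
        rw [add_smul, one_smul]
        abel
    have h2 := h1 l
    have h3 : (z : Module.End F V) ^ l = 1 := by rw [← Units.val_pow_eq_pow_val, hzl, Units.val_one]
    rw [h3, Module.End.one_apply] at h2
    have h4 : (l : F) • w = 0 := by
      have := h2.symm
      rwa [add_eq_left] at this
    exact (smul_eq_zero.1 h4).resolve_left hlF
  have hW0 : W ≠ ⊥ := by
    intro h
    apply hz1
    apply Units.ext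
    rw [Units.val_one]
    have h1 : (z : Module.End F V) - 1 = 0 := LinearMap.range_eq_bot.1 h
    exact sub_eq_zero.1 h1
  refine ⟨finrank F W, ?_, Submodule.finrank_le W, ?_⟩
  · have := Submodule.nontrivial_iff_ne_bot.2 hW0
    exact Module.finrank_pos
  · have hinv : ∀ s ∈ zpowers a, ∀ y ∈ {y : V | y ∈ W ∧ y ≠ 0}, s • y ∈ {y : V | y ∈ W ∧ y ≠ 0} := by
      rintro s hs y ⟨⟨v, rfl⟩, hy0⟩
      have hc : Commute s z := by
        obtain ⟨i, rfl⟩ := mem_zpowers_iff.1 hs
        exact ((Commute.refl a).zpow_left i).pow_right _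
      refine ⟨⟨(s : Module.End F V) v, ?_⟩, ?_⟩
      · change ((z : Module.End F V) - 1) ((s : Module.End F V) v) =
          (s : Module.End F V) (((z : Module.End F V) - 1) v)
        have h1 : (z : Module.End F V) * (s : Module.End F V) = (s : Module.End F V) * (z : Module.End F V) := by
          rw [← Units.val_mul, ← Units.val_mul, hc.eq]
        have h2 := LinearMap.congr_fun h1 v
        rw [Module.End.mul_apply, Module.End.mul_apply] at h2
        rw [LinearMap.sub_apply, Module.End.one_apply, LinearMap.sub_apply, Module.End.one_apply, map_sub, h2]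
      · intro h
        apply hy0
        have h1 : s⁻¹ • (s • (((z : Module.End F V) - 1) v)) = s⁻¹ • (0 : V) := by rw [h]
        rwa [inv_smul_smul, smul_zero] at h1
    have hfr : ∀ y ∈ {y : V | y ∈ W ∧ y ≠ 0}, ∀ s ∈ zpowers a, s • y = y → s = 1 := by
      rintro y ⟨hyW, hy0⟩ s hs h
      by_contra hs1
      obtain ⟨j, hj⟩ := exists_pow_eq hl ha hs hs1
      apply hy0
      apply hfix y hyW
      have h1 : ∀ i : ℕ, (s ^ i) • y = y := by
        intro i
        induction i with
        | zero => rw [pow_zero, one_smul]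
        | succ i ih => rw [pow_succ, mul_smul, h, ih]
      have h2 := h1 j
      rw [hj] at h2
      exact h2
    have hfin : Finite (zpowers a) := by
      have : IsOfFinOrder a := orderOf_pos_iff.1 (by rw [ha]; exact Nat.pow_pos hl.pos)
      exact this.finite_zpowers
    have h1 := Cfsg.Agent.ONan.Count.card_dvd_set (zpowers a) {y : V | y ∈ W ∧ y ≠ 0} hinv hfr
    rw [Nat.card_zpowers, ha] at h1
    have h2 : Nat.card {y : V | y ∈ W ∧ y ≠ 0} = Nat.card F ^ finrank F W - 1 := by
      have h3 : {y : V | y ∈ W ∧ y ≠ 0} = (W : Set V) \ {0} := by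
        ext y
        simp
      rw [Nat.card_coe_set_eq, h3, Set.ncard_sdiff (by simp) (Set.finite_singleton 0),
        Set.ncard_singleton]
      congr 1
      rw [← Nat.card_coe_set_eq]
      exact Module.natCard_eq_pow_finrank (K := F) (V := W)
    rwa [h2] at h1

/-- the order of `E₇` -/
theorem e7_dvd {q l a : ℕ} (hl : Prim q 3 l) (h : l ^ a ∣ q ^ 3 - 1) {c : ℕ} (hc : den (.e7 q) * c = num (.e7 q)) :
    l ^ (3 * a) ∣ c := by
  have h2 : l ≠ 2 := by
    have := hl.odd (by omega)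
    omega
  have hco : Nat.Coprime (l ^ (3 * a)) (den (.e7 q)) := by
    refine Nat.Coprime.pow_left _ ?_
    have h3 : Nat.gcd 2 (q - 1) ∣ 2 := Nat.gcd_dvd_left _ _
    exact Nat.Coprime.coprime_dvd_right h3 ((Nat.coprime_primes hl.prime Nat.prime_two).2 h2)
  refine hco.dvd_of_dvd_mul_left ?_
  rw [hc]
  have key : ∀ j, l ^ a ∣ q ^ (3 * j) - 1 := fun j => h.trans (by
    rw [pow_mul]
    exact Nat.sub_one_dvd_pow_sub_one _ _)
  have h6 := key 2
  have h12 := key 4
  have h18 := key 6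
  norm_num at h6 h12 h18
  change l ^ (3 * a) ∣ q ^ 63 * ((q ^ 2 - 1) * (q ^ 6 - 1) * (q ^ 8 - 1) * (q ^ 10 - 1) * (q ^ 12 - 1) *
    (q ^ 14 - 1) * (q ^ 18 - 1))
  have h3 : l ^ (3 * a) = l ^ a * l ^ a * l ^ a := by ring
  rw [h3]
  refine (mul_dvd_mul (mul_dvd_mul h6 h12) h18).trans ⟨q ^ 63 * ((q ^ 2 - 1) * (q ^ 8 - 1) * (q ^ 10 - 1) *
    (q ^ 14 - 1)), by ring⟩

/-- **The Sylow subgroups of class three.** -/
theorem e7_noncyclic {S : Type u} [Group S] [Finite S] {q l : ℕ} {F : Type} [Field F] [Fintype F]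
    (hF : Fintype.card F = q) (e : S ≃* ↥(Cfsg.Lie.chevE7.group F)) (heq : den (.e7 q) * Nat.card S = num (.e7 q))
    (hl : Prim q 3 l) : ∃ P : Subgroup S, IsPGroup l P ∧ ¬ IsCyclic P := by
  have hlf : Fact l.Prime := ⟨hl.prime⟩
  have hq1 : 1 < q := by
    rw [← hF]
    exact Fintype.one_lt_card
  have hl2 : l ≠ 2 := by
    have := hl.odd (by omega)
    omega
  have hlodd : Odd l := hl.prime.odd_of_ne_two hl2
  -- `7 ≤ l`
  have hl7 : 7 ≤ l := by
    have h1 : 3 ∣ l - 1 := H426.LieFam.Prim_dvd_pred hl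
    have h2 := hl.prime.two_le
    have h3 : l ≠ 4 := by
      rintro rfl
      exact absurd hl.prime (by norm_num)
    omega
  obtain ⟨P⟩ : Nonempty (Sylow l S) := inferInstance
  refine ⟨P, P.isPGroup', fun hcyc => ?_⟩
  set v := (Nat.card S).factorization l with hv
  have hPc : Nat.card P = l ^ v := P.card_eq_multiplicity
  -- the exponent
  set a := (q ^ 3 - 1).factorization l with ha
  have hp3 : q ^ 3 - 1 ≠ 0 := by
    have : 1 < q ^ 3 := Nat.one_lt_pow (by norm_num) hq1
    omega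
  have ha1 : 1 ≤ a := (hl.prime.dvd_iff_one_le_factorization hp3).1 ((hl.dvd_iff 3).2 dvd_rfl)
  have h3a : 3 * a ≤ v := by
    rw [hv, ← hl.prime.pow_dvd_iff_le_factorization Nat.card_pos.ne']
    exact e7_dvd hl (Nat.ordProj_dvd _ _) heq
  obtain ⟨g, hgen⟩ := hcyc.exists_generator
  have hgo : orderOf g = l ^ v := by rw [orderOf_eq_card_of_forall_mem_zpowers hgen, hPc]
  -- in `GL`
  let φ : S →* (Module.End F (Cfsg.Lie.chevE7.Idx → F))ˣ :=
    (Matrix.GeneralLinearGroup.toLin.toMonoidHom.comp (Cfsg.Lie.chevE7.group F).subtype).comp e.toMonoidHom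
  have hφ : Function.Injective φ := by
    have h1 : Function.Injective (Matrix.GeneralLinearGroup.toLin (n := Cfsg.Lie.chevE7.Idx) (R := F)) :=
      Matrix.GeneralLinearGroup.toLin.injective
    exact (h1.comp (Subgroup.subtype_injective _)).comp e.injective
  obtain ⟨k, hk⟩ : ∃ k, v = k + 1 := ⟨v - 1, by omega⟩
  have ho : orderOf (φ (g : S)) = l ^ (k + 1) := by
    rw [orderOf_injective φ hφ, Subgroup.orderOf_coe, hgo, hk]
  have hlF : (l : F) ≠ 0 := by
    obtain ⟨p, _⟩ := CharP.exists F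
    obtain ⟨m, hp, hm⟩ := FiniteField.card F p
    rw [Ne, CharP.cast_eq_zero_iff F p]
    intro h
    have h1 := (Nat.prime_dvd_prime_iff_eq hp hl.prime).1 h
    apply hl.not_dvd
    rw [← hF, hm, ← h1]
    exact dvd_pow_self _ m.ne_zero
  obtain ⟨d, hd1, hd2, hd3⟩ := exists_dvd hl.prime hlF ho
  have hdim : finrank F (Cfsg.Lie.chevE7.Idx → F) = 133 := by
    rw [Module.finrank_fintype_fun_eq_card, Fintype.card_sum, Fintype.card_fin, Fintype.card_fin]
    rfl
  rw [hdim] at hd2
  rw [Nat.card_eq_fintype_card, hF, ← hk] at hd3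
  -- arithmetic
  have h3d : 3 ∣ d := (hl.dvd_iff d).1 ((dvd_pow_self l (by omega)).trans hd3)
  obtain ⟨j, rfl⟩ := h3d
  have hj : j ≠ 0 := by rintro rfl; omega
  have hlte := padicValNat.pow_sub_pow (p := l) (x := q ^ 3) (y := 1) hlodd (Nat.one_lt_pow (by norm_num) hq1)
    ((hl.dvd_iff 3).2 dvd_rfl) (hl.not_dvd_pow 3) hj
  rw [one_pow, ← pow_mul] at hlte
  have hne : q ^ (3 * j) - 1 ≠ 0 := by
    have : 1 < q ^ (3 * j) := Nat.one_lt_pow (by omega) hq1
    omega
  have h4 : v ≤ padicValNat l (q ^ (3 * j) - 1) := by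
    rwa [← padicValNat_dvd_iff_le hne]
  have h5 : padicValNat l (q ^ 3 - 1) = a := by rw [ha, Nat.factorization_def _ hl.prime]
  rw [hlte, h5] at h4
  have h6 : 2 ≤ padicValNat l j := by omega
  have h7 : l ^ 2 ∣ j := (padicValNat_dvd_iff_le hj).2 h6
  have h8 := Nat.le_of_dvd (by omega) h7
  nlinarith

theorem index_dvd_out {Q : Type u} [Group Q] [Finite Q] {S : Subgroup Q} (hS : S.Normal)
    (hc : centralizer (S : Set Q) = ⊥) (hZ : center S = ⊥) : S.index ∣ Nat.card (Cfsg.Out S) := by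
  have h1 : Nat.card Q ∣ Nat.card (MulAut S) := by
    have hinj : Function.Injective (MulAut.conjNormal (H := S)) := by
      rw [← MonoidHom.ker_eq_bot_iff, eq_bot_iff, ← hc]
      intro g hg
      rw [mem_centralizer_iff]
      intro m hm
      have h1 : MulAut.conjNormal g = (1 : MulAut S) := hg
      have h2 : ((MulAut.conjNormal g) (⟨m, hm⟩ : S) : Q) = m := by rw [h1]; rfl
      rw [MulAut.conjNormal_apply] at h2
      exact (mul_inv_eq_iff_eq_mul.1 h2).symm
    exact Subgroup.card_dvd_of_injective _ hinj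
  rw [← Cfsg.Agent.H163.PG.card_out_mul hZ, ← Subgroup.card_mul_index S, mul_comm] at h1
  exact Nat.dvd_of_mul_dvd_mul_right Nat.card_pos h1

theorem center_bot {S : Type u} [Group S] [IsSimpleGroup S] (hna : ¬ IsMulCommutative S) : center S = ⊥ := by
  rcases (inferInstance : (center S).Normal).eq_bot_or_eq_top with h | h
  · exact h
  · exfalso
    apply hna
    refine ⟨⟨fun a b => ?_⟩⟩
    have ha : a ∈ center S := h ▸ mem_top a
    exact ((mem_center_iff.1 ha) b).symm

/-- the index of the section divides the order of its outer automorphism group -/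
theorem fr_index {G : Type u} [Group G] [Finite G] {K : Subgroup G} [K.Normal] {S : Subgroup (G ⧸ K)}
    (R : S88.Fr K S) : S.index ∣ Nat.card (Cfsg.Out ↥S) := by
  have := R.simple
  exact index_dvd_out R.norm R.cent (center_bot R.nonab)

/-- **`S` is not `E₇(q)`**, all `q`. -/
theorem kill_e7 {p : ℕ} {T : S88.Ty} {n k : ℕ} {L : Type u} [Group L] [Finite L] {G : Type v} [Group G] [Finite G]
    {K : Subgroup G} [K.Normal] {S : Subgroup (G ⧸ K)} (D : S88.Dat p T n k L G) (R : S88.Fr K S)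
    (hT : (T = .c ∧ n = 9) ∨ (T = .b ∧ n = 9) ∨ (T = .pl ∧ n = 10)) (hS : H426.LieFam.Fam.Is p k ↥S .e7) : False := by
  have hp := D.hp
  have hk := D.hk
  have F := fac_of D
  have H := dat_of_is hp hk hS
  have hn9 : n = 9 ∨ n = 10 := by omega
  -- a prime of class 16
  obtain ⟨r, hr⟩ := exists_prim_two hp (e := 16 * k) (by omega) (by omega)
  have hrG : r ∣ Nat.card G := by
    rw [dvd_iff_of D.hsp hr.prime]
    refine F.dvd_of hr (by norm_num) ?_
    rcases hT with ⟨rfl, rfl⟩ | ⟨rfl, rfl⟩ | ⟨rfl, rfl⟩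
    · exact Or.inl ⟨rfl, by norm_num⟩
    · exact Or.inl ⟨rfl, by norm_num⟩
    · exact Or.inl ⟨rfl, by norm_num⟩
  have hr2 : r ≠ 2 := prim_ne_two hr (by omega)
  have hrS : ¬ r ∣ Nat.card ↥S := by
    intro h
    have h1 := H.cls_mul (d := 16) (by norm_num) ⟨r, by rwa [mul_comm], h⟩
    have h2 := K_e7 h1
    omega
  obtain ⟨Fd, _, _, _, hFd, ⟨i⟩⟩ := hS
  have hri : ¬ r ∣ S.index := by
    intro h
    have h1 := h.trans (fr_index R)
    have := Fact.mk hp
    rw [Cfsg.Agent.H934.OutB.card_out_congr i, Cfsg.Agent.S2124.result (F := Fd) p k hFd] at h1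
    rcases hr.prime.dvd_mul.1 h1 with h1 | h1
    · exact hr2 ((Nat.prime_dvd_prime_iff_eq hr.prime Nat.prime_two).1 (h1.trans (Nat.gcd_dvd_left _ _)))
    · have h2 := Nat.le_of_dvd (by omega) h1
      have h3 := H426.LieFam.Prim_lt hr
      omega
  have hrK : r ∣ Nat.card ↥K := by
    rw [card_split K S] at hrG
    rcases hr.prime.dvd_mul.1 hrG with h | h
    · exact h
    · exact ((hr.prime.dvd_mul.1 h).elim hrS hri).elim
  -- a prime of class 3
  have hq2 : 2 ≤ p ^ k := hp.two_le.trans (Nat.le_self_pow (by omega) p)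
  obtain ⟨w, hw⟩ := exists_prim (q := p ^ k) (e := 3) hq2 le_rfl (by omega)
  have hrq : Prim (p ^ k) 16 r := prim_of_pow (by omega) (by rwa [mul_comm] at hr)
  have hwr : w ≠ r := by
    rintro rfl
    have := hw.unique hrq
    omega
  have hw2 : w ≠ 2 := by
    have := hw.odd (by omega)
    omega
  obtain ⟨P, hP, hPc⟩ := e7_noncyclic (S := ↥S) hFd i H.eq hw
  obtain ⟨g, hg⟩ := H425.KStep.exists_adj K hw.prime hr.prime hwr hw2 hrK (P.map S.subtype) (hP.map _) (by
    intro hc
    apply hPc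
    have e := P.equivMapOfInjective S.subtype S.subtype_injective
    exact isCyclic_of_surjective e.symm e.symm.surjective)
  obtain ⟨x, hx⟩ := (D.hsp _).1 ⟨g, hg⟩
  refine F.na r w 16 3 8 3 hr.prime hw.prime (orderOf_prim (by omega) hrq) (orderOf_prim (by omega) hw) hwr.symm
    (by norm_num) (by norm_num) (Or.inr ⟨by decide, by norm_num⟩) (Or.inl ⟨by decide, rfl⟩) (by norm_num) (by norm_num)
    (by omega) ?_ x (by rw [hx, mul_comm])
  rintro ⟨t, -, ht⟩
  omega

end Cfsg.Agent.H200.STwo.ESeven
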