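import Cfsg.Agent.H420.Reduce

/-!
# Names of the known simple groups: alternating, sporadic, Tits, Lie type in some characteristic (helper200)

* `lie_of_par`, `sporadic_of_named` (as in `H390/B6/Dispatch.lean` of helper390);
* `named_cases`;
* `exists_factor` : the simple section of `Red` is a composition factor.
-/

set_option autoImplicit false
set_option linter.unusedSectionVars false

namespace Cfsg.Agent.H200.STwo.Named

open Subgroup Cfsg Cfsg.Agent.H420.QR Cfsg.Agent.OrdDiv Cfsg.Agent.H436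

universe u v w

/-- the field parameter of a name (`1` : not a group of Lie type) -/
def par : Grp → ℕ
  | .psl _ q => q
  | .psp _ q => q
  | .psu _ q => q
  | .oodd _ q => q
  | .oplus _ q => q
  | .ominus _ q => q
  | .g2 q => q
  | .f4 q => q
  | .e6 q => q
  | .e7 q => q
  | .e8 q => q
  | .te6 q => q
  | .td4 q => q
  | .sz q => q
  | .ree q => q
  | .tf4 q => q
  | _ => 1

theorem charP_of_dvd_card {F : Type*} [Field F] [Fintype F] {p : ℕ} (hp : p.Prime) (h : p ∣ Fintype.card F) :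
    CharP F p := by
  obtain ⟨r, hr⟩ := CharP.exists F
  have hrp : r.Prime := CharP.char_is_prime F r
  obtain ⟨n, -, hn⟩ := FiniteField.card F r
  rw [hn] at h
  have := (Nat.prime_dvd_prime_iff_eq hp hrp).1 (hp.dvd_of_dvd_pow h)
  rw [this]
  exact hr

/-- **A named group with parameter divisible by `p` is of Lie type in characteristic `p`.** -/
theorem lie_of_par {p : ℕ} (hp : p.Prime) {g : Grp} {S : Type u} [Group S] (h : IsNamed g S) (hd : p ∣ par g) :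
    IsLieTypeChar p S := by
  have hno : ¬ p ∣ 1 := fun h1 => hp.one_lt.ne' (Nat.dvd_one.1 h1)
  have hc := h.cond
  have hr := h.real
  unfold IsLieTypeChar
  cases g with
  | psl n q =>
    obtain ⟨F, i1, i2, hF, e⟩ := hr
    have := charP_of_dvd_card hp (show p ∣ Fintype.card F by rw [hF]; exact hd)
    exact Or.inl ⟨F, i1, i2, this, n, hc.1, fun h1 => by rw [hF]; exact hc.2.1 h1, e⟩
  | psp n q =>
    obtain ⟨F, i1, i2, hF, e⟩ := hr
    have := charP_of_dvd_card hp (show p ∣ Fintype.card F by rw [hF]; exact hd)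
    exact Or.inr (Or.inl ⟨F, i1, i2, this, n, hc.1, fun h1 => by rw [hF]; exact hc.2.1 h1, e⟩)
  | psu n q =>
    obtain ⟨F, i1, i2, hF, e⟩ := hr
    have := charP_of_dvd_card hp (show p ∣ Fintype.card F by rw [hF]; exact dvd_pow hd (by norm_num))
    exact Or.inr (Or.inr (Or.inl ⟨F, i1, i2, this, n, q, hF, hc.1, hc.2.1, e⟩))
  | oodd n q =>
    obtain ⟨F, i1, i2, hF, e⟩ := hr
    have := charP_of_dvd_card hp (show p ∣ Fintype.card F by rw [hF]; exact hd)
    exact Or.inr (Or.inr (Or.inr (Or.inl ⟨F, i1, i2, this, n, hc.1, by rw [hF]; exact hc.2.1, e⟩)))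
  | oplus n q =>
    obtain ⟨F, i1, i2, hF, e⟩ := hr
    have := charP_of_dvd_card hp (show p ∣ Fintype.card F by rw [hF]; exact hd)
    exact Or.inr (Or.inr (Or.inr (Or.inr (Or.inl ⟨F, i1, i2, this, n, hc.1, e⟩))))
  | ominus n q =>
    obtain ⟨F, i1, i2, a, b, hF, hab, e⟩ := hr
    have := charP_of_dvd_card hp (show p ∣ Fintype.card F by rw [hF]; exact hd)
    exact Or.inr (Or.inr (Or.inr (Or.inr (Or.inr (Or.inl ⟨F, i1, i2, this, n, a, b, hc.1, hab, e⟩)))))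
  | g2 q =>
    obtain ⟨F, i1, i2, hF, e⟩ := hr
    have := charP_of_dvd_card hp (show p ∣ Fintype.card F by rw [hF]; exact hd)
    exact Or.inr (Or.inr (Or.inr (Or.inr (Or.inr (Or.inr (Or.inl
      ⟨F, i1, i2, this, Or.inl ⟨by rw [hF]; exact hc.1, e⟩⟩))))))
  | f4 q =>
    obtain ⟨F, i1, i2, hF, e⟩ := hr
    have := charP_of_dvd_card hp (show p ∣ Fintype.card F by rw [hF]; exact hd)
    exact Or.inr (Or.inr (Or.inr (Or.inr (Or.inr (Or.inr (Or.inl ⟨F, i1, i2, this, Or.inr (Or.inl e)⟩))))))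
  | e6 q =>
    obtain ⟨F, i1, i2, hF, e⟩ := hr
    have := charP_of_dvd_card hp (show p ∣ Fintype.card F by rw [hF]; exact hd)
    exact Or.inr (Or.inr (Or.inr (Or.inr (Or.inr (Or.inr (Or.inl ⟨F, i1, i2, this, Or.inr (Or.inr (Or.inl e))⟩))))))
  | e7 q =>
    obtain ⟨F, i1, i2, hF, e⟩ := hr
    have := charP_of_dvd_card hp (show p ∣ Fintype.card F by rw [hF]; exact hd)
    exact Or.inr (Or.inr (Or.inr (Or.inr (Or.inr (Or.inr (Or.inl
      ⟨F, i1, i2, this, Or.inr (Or.inr (Or.inr (Or.inl e)))⟩))))))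
  | e8 q =>
    obtain ⟨F, i1, i2, hF, e⟩ := hr
    have := charP_of_dvd_card hp (show p ∣ Fintype.card F by rw [hF]; exact hd)
    exact Or.inr (Or.inr (Or.inr (Or.inr (Or.inr (Or.inr (Or.inl
      ⟨F, i1, i2, this, Or.inr (Or.inr (Or.inr (Or.inr e)))⟩))))))
  | te6 q =>
    obtain ⟨F, i1, i2, hF, e⟩ := hr
    have := charP_of_dvd_card hp (show p ∣ Fintype.card F by rw [hF]; exact dvd_pow hd (by norm_num))
    exact Or.inr (Or.inr (Or.inr (Or.inr (Or.inr (Or.inr (Or.inr (Or.inl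
      ⟨F, i1, i2, this, q, hc, Or.inl ⟨hF, e⟩⟩)))))))
  | td4 q =>
    obtain ⟨F, i1, i2, hF, e⟩ := hr
    have := charP_of_dvd_card hp (show p ∣ Fintype.card F by rw [hF]; exact dvd_pow hd (by norm_num))
    exact Or.inr (Or.inr (Or.inr (Or.inr (Or.inr (Or.inr (Or.inr (Or.inl
      ⟨F, i1, i2, this, q, hc, Or.inr ⟨hF, e⟩⟩)))))))
  | sz q =>
    obtain ⟨F, i1, i2, m, hm, hF, hq, e⟩ := hr
    have hd' : p ∣ 2 ^ (2 * m + 1) := by rw [← hq]; exact hd
    have h2 := (Nat.prime_dvd_prime_iff_eq hp Nat.prime_two).1 (hp.dvd_of_dvd_pow hd')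
    exact Or.inr (Or.inr (Or.inr (Or.inr (Or.inr (Or.inr (Or.inr (Or.inr (Or.inl
      ⟨h2, F, i1, i2, m, hm, hF.trans hq, e⟩))))))))
  | tf4 q =>
    obtain ⟨F, i1, i2, m, hm, hF, hq, e⟩ := hr
    have hd' : p ∣ 2 ^ (2 * m + 1) := by rw [← hq]; exact hd
    have h2 := (Nat.prime_dvd_prime_iff_eq hp Nat.prime_two).1 (hp.dvd_of_dvd_pow hd')
    exact Or.inr (Or.inr (Or.inr (Or.inr (Or.inr (Or.inr (Or.inr (Or.inr (Or.inr (Or.inl
      ⟨h2, F, i1, i2, m, hm, hF.trans hq, e⟩)))))))))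
  | ree q =>
    obtain ⟨F, i1, i2, m, hm, hF, hq, e⟩ := hr
    have hd' : p ∣ 3 ^ (2 * m + 1) := by rw [← hq]; exact hd
    have h2 := (Nat.prime_dvd_prime_iff_eq hp Nat.prime_three).1 (hp.dvd_of_dvd_pow hd')
    exact Or.inr (Or.inr (Or.inr (Or.inr (Or.inr (Or.inr (Or.inr (Or.inr (Or.inr (Or.inr
      ⟨h2, F, i1, i2, m, hm, hF.trans hq, e⟩)))))))))
  | _ => exact absurd hd hno

/-- the sporadic names -/
theorem sporadic_of_named {g : Grp} {S : Type u} [Group S] (hs : IsSimpleGroup S) (h : IsNamed g S)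
    (hg : g ∈ [Grp.m11, .m12, .m22, .m23, .m24, .j1, .j2, .j3, .j4, .co1, .co2, .co3, .mcl, .hs, .suz, .he, .ru, .on,
      .ly, .fi22, .fi23, .fi24, .hn, .th, .b, .m]) : IsSporadic S := by
  have ho := h.ord
  unfold IsSporadic
  simp only [List.mem_cons, List.not_mem_nil, or_false] at hg
  rcases hg with rfl | rfl | rfl | rfl | rfl | rfl | rfl | rfl | rfl | rfl | rfl | rfl | rfl | rfl | rfl | rfl | rfl |
    rfl | rfl | rfl | rfl | rfl | rfl | rfl | rfl | rfl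
  · have h1 : IsM11 S := ⟨hs, ho⟩
    tauto
  · have h1 : IsM12 S := ⟨hs, ho⟩
    tauto
  · have h1 : IsM22 S := ⟨hs, ho⟩
    tauto
  · have h1 : IsM23 S := ⟨hs, ho⟩
    tauto
  · have h1 : IsM24 S := ⟨hs, ho⟩
    tauto
  · have h1 : IsJ1 S := ⟨hs, ho⟩
    tauto
  · have h1 : IsJ2 S := ⟨hs, ho⟩
    tauto
  · have h1 : IsJ3 S := ⟨hs, ho⟩
    tauto
  · have h1 : IsJ4 S := ⟨hs, ho⟩
    tauto
  · have h1 : IsCo1 S := ⟨hs, ho⟩
    tauto
  · have h1 : IsCo2 S := ⟨hs, ho⟩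
    tauto
  · have h1 : IsCo3 S := ⟨hs, ho⟩
    tauto
  · have h1 : IsMcL S := ⟨hs, ho⟩
    tauto
  · have h1 : IsHS S := ⟨hs, ho⟩
    tauto
  · have h1 : IsSuz S := ⟨hs, ho⟩
    tauto
  · have h1 : IsHe S := ⟨hs, ho⟩
    tauto
  · have h1 : IsRu S := ⟨hs, ho⟩
    tauto
  · have h1 : IsON S := ⟨hs, ho⟩
    tauto
  · have h1 : IsLy S := ⟨hs, ho⟩
    tauto
  · have h1 : IsFi22 S := ⟨hs, ho⟩
    tauto
  · have h1 : IsFi23 S := ⟨hs, ho⟩
    tauto
  · have h1 : IsFi24' S := ⟨hs, ho⟩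
    tauto
  · have h1 : IsHN S := ⟨hs, ho⟩
    tauto
  · have h1 : IsTh S := ⟨hs, ho⟩
    tauto
  · have h1 : IsB S := ⟨hs, ho⟩
    tauto
  · have h1 : IsM S := ⟨hs, ho⟩
    tauto

theorem exists_prime_par {g : Grp} (h : par g ≠ 1) : ∃ p : ℕ, p.Prime ∧ p ∣ par g := Nat.exists_prime_and_dvd h

theorem named_cases {g : Grp} {S : Type u} [Group S] (hs : IsSimpleGroup S) (h : IsNamed g S) :
    (∃ n, Nonempty (S ≃* alternatingGroup (Fin n))) ∨ IsSporadic S ∨ Lie.IsoTits S ∨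
      ∃ p : ℕ, p.Prime ∧ IsLieTypeChar p S := by
  have hr := h.real
  have hc := h.cond
  have key : ∀ {q : ℕ}, IsPrimePow q → par g = q → ∃ p : ℕ, p.Prime ∧ IsLieTypeChar p S := by
    intro q hq hg
    obtain ⟨p, hp, hd⟩ := exists_prime_par (g := g) (by rw [hg]; exact hq.one_lt.ne')
    exact ⟨p, hp, lie_of_par hp h hd⟩
  cases g with
  | alt n => exact Or.inl ⟨n, hr⟩
  | psl n q => exact Or.inr (Or.inr (Or.inr (key hc.2.2 rfl)))
  | psp n q => exact Or.inr (Or.inr (Or.inr (key hc.2.2 rfl)))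
  | psu n q => exact Or.inr (Or.inr (Or.inr (key hc.2.2 rfl)))
  | oodd n q => exact Or.inr (Or.inr (Or.inr (key hc.2.2 rfl)))
  | oplus n q => exact Or.inr (Or.inr (Or.inr (key hc.2 rfl)))
  | ominus n q => exact Or.inr (Or.inr (Or.inr (key hc.2 rfl)))
  | g2 q => exact Or.inr (Or.inr (Or.inr (key hc.2 rfl)))
  | f4 q => exact Or.inr (Or.inr (Or.inr (key hc rfl)))
  | e6 q => exact Or.inr (Or.inr (Or.inr (key hc rfl)))
  | e7 q => exact Or.inr (Or.inr (Or.inr (key hc rfl)))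
  | e8 q => exact Or.inr (Or.inr (Or.inr (key hc rfl)))
  | te6 q => exact Or.inr (Or.inr (Or.inr (key hc rfl)))
  | td4 q => exact Or.inr (Or.inr (Or.inr (key hc rfl)))
  | sz q =>
    obtain ⟨m, hm, rfl⟩ := hc
    exact Or.inr (Or.inr (Or.inr (key (Nat.prime_two.isPrimePow.pow (by omega)) rfl)))
  | ree q =>
    obtain ⟨m, hm, rfl⟩ := hc
    exact Or.inr (Or.inr (Or.inr (key (Nat.prime_three.isPrimePow.pow (by omega)) rfl)))
  | tf4 q =>
    obtain ⟨m, hm, rfl⟩ := hc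
    exact Or.inr (Or.inr (Or.inr (key (Nat.prime_two.isPrimePow.pow (by omega)) rfl)))
  | tits => exact Or.inr (Or.inr (Or.inl hr))
  | _ => exact Or.inr (Or.inl (sporadic_of_named hs h (by decide)))

/-- a composition factor of `G` isomorphic to `S` -/
theorem exists_factor {G : Type u} [Group G] [Finite G] {K : Subgroup G} [K.Normal] {S : Subgroup (G ⧸ K)}
    [S.Normal] (R : Red G K S) :
    ∃ (H : Subgroup G) (_ : H.Normal) (N : Subgroup ↥H) (_ : N.Normal), Nonempty (↥H ⧸ N ≃* ↥S) := by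
  obtain ⟨K', H, hK', hH, h1, h2, h3, h4⟩ := R.quasi (L := ↥S) ⟨MulEquiv.refl _⟩
  exact ⟨H, hH, K'.subgroupOf H, inferInstance, h4⟩

end Cfsg.Agent.H200.STwo.Named
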