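import Cfsg.Agent.H200.STwo.SideC
import Cfsg.Agent.H390.Cocl

/-!
# From the prime graph of `L` to the hypotheses of the exponent comparison (helper200)

`NA L q N` (`H390.Cocl`) : primes of classes `k`, `l` with `η(k) + η(l) > N`, `k / l` not odd, are not adjacent in `L`.

* `Fac L p m N KL` : `NA L (p ^ m) N` and `KL` are the classes of the primes of `|L|`;
* `Sec L c` : every prime of `c` divides `|L|`; of three pairwise nonadjacent primes of `L` two divide `c`;
* `Sec.side`, `Sec.sideP`, `Sec.sideF` : the structures `Side`, `SideP`, `SideF`.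
-/

set_option autoImplicit false

namespace Cfsg.Agent.H200.STwo

open Cfsg Cfsg.Agent.OrdDiv Cfsg.Agent.H436 Cfsg.Agent.H425.PartP Cfsg.Agent.H425.Chr
open Cfsg.Agent.H390 (NA)
open Cfsg.Agent.H390.NonAdj (IsEta)

universe u

theorem orderOf_prim {q e r : ℕ} (hq : 1 ≤ q) (h : Prim q e r) : orderOf (q : ZMod r) = e := by
  have key : ∀ m : ℕ, (q : ZMod r) ^ m = 1 ↔ e ∣ m := by
    intro m
    have h1 : 1 ≤ q ^ m := Nat.one_le_pow _ _ hq
    rw [← h.dvd_iff m, ← ZMod.natCast_eq_zero_iff, Nat.cast_sub h1, Nat.cast_pow, Nat.cast_one, sub_eq_zero]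
  apply Nat.dvd_antisymm
  · exact orderOf_dvd_of_pow_eq_one ((key e).2 dvd_rfl)
  · exact (key _).1 (pow_orderOf_eq_one _)

/-- `η(k)` -/
def eta (k : ℕ) : ℕ := if k % 2 = 0 then k / 2 else k

theorem isEta (k : ℕ) : IsEta k (eta k) := by
  unfold eta
  split_ifs with h
  · exact Or.inr ⟨Nat.even_iff.2 h, by omega⟩
  · exact Or.inl ⟨Nat.odd_iff.2 (by omega), rfl⟩

theorem eta_cases (k : ℕ) : (k % 2 = 0 ∧ eta k = k / 2) ∨ (k % 2 = 1 ∧ eta k = k) := by
  unfold eta
  split_ifs with h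
  · exact Or.inl ⟨h, rfl⟩
  · exact Or.inr ⟨by omega, rfl⟩

/-- the quotient of the classes is not an odd integer -/
def Rat (k l : ℕ) : Prop := (∀ t, t % 2 = 1 → k ≠ l * t) ∧ (∀ t, t % 2 = 1 → l ≠ k * t)

theorem Rat.symm {k l : ℕ} (h : Rat k l) : Rat l k := ⟨h.2, h.1⟩

/-- `l < k < 3 l` -/
theorem rat_of_lt {k l : ℕ} (h1 : l < k) (h2 : k < 3 * l) : Rat k l := by
  refine ⟨fun t ht h => ?_, fun t ht h => ?_⟩
  · have h3 : t = 1 ∨ 3 ≤ t := by omega
    rcases h3 with rfl | h3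
    · omega
    · have : l * 3 ≤ l * t := Nat.mul_le_mul_left _ h3
      omega
  · have : k * 1 ≤ k * t := Nat.mul_le_mul_left _ (by omega)
    omega

theorem rat_of_parity {k l : ℕ} (_hk : 1 ≤ k) (hl : k % 2 = 0) (h2 : l % 2 = 1) (h3 : l < k) : Rat k l := by
  refine ⟨fun t ht h => ?_, fun t ht h => ?_⟩
  · have : (l * t) % 2 = 1 := by rw [Nat.mul_mod, h2, ht]
    omega
  · have : k * 1 ≤ k * t := Nat.mul_le_mul_left _ (by omega)
    omega

variable {p m N n c : ℕ} {L : Type u} [Group L]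

/-- **Nonadjacency, symmetric form.** -/
theorem na_prim (hp : p.Prime) (hm : 1 ≤ m) (hNA : NA L (p ^ m) N) (hN : 4 ≤ N) {k l r s : ℕ} (hr : Prim p (k * m) r)
    (hs : Prim p (l * m) s) (hk : 3 ≤ k) (hl : 3 ≤ l) (hsum : N < eta k + eta l) (hrat : Rat k l) :
    ¬ ∃ g : L, orderOf g = r * s := by
  have hq1 : 1 ≤ p ^ m := Nat.one_le_pow _ _ hp.pos
  have hr' := orderOf_prim hq1 (prim_of_pow (by omega) (by rwa [mul_comm] at hr))
  have hs' := orderOf_prim hq1 (prim_of_pow (by omega) (by rwa [mul_comm] at hs))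
  have hrs : r ≠ s := by
    rintro rfl
    have h1 := hr'.symm.trans hs'
    subst h1
    exact hrat.1 1 rfl (by omega)
  rcases Nat.le_total (eta l) (eta k) with h | h
  · rintro ⟨g, hg⟩
    refine hNA r s k l (eta k) (eta l) hr.prime hs.prime hr' hs' hrs hk hl (isEta k) (isEta l) h (by omega) (by omega) ?_ g hg
    rintro ⟨t, ht, h1⟩
    exact hrat.1 t (Nat.odd_iff.1 ht) h1
  · rintro ⟨g, hg⟩
    refine hNA s r l k (eta l) (eta k) hs.prime hr.prime hs' hr' hrs.symm hl hk (isEta l) (isEta k) h (by omega) (by omega)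
      ?_ g (by rw [hg, mul_comm])
    rintro ⟨t, ht, h1⟩
    exact hrat.2 t (Nat.odd_iff.1 ht) h1

/-- the facts about `L` -/
structure Fac (L : Type u) [Group L] (p m N : ℕ) (KL : ℕ → Prop) : Prop where
  hp : p.Prime
  hm : 1 ≤ m
  na : NA L (p ^ m) N
  cls : ∀ e w, Prim p e w → 3 ≤ e / Nat.gcd e m → (w ∣ Nat.card L ↔ KL (e / Nat.gcd e m))

theorem Fac.dvd_of {KL : ℕ → Prop} (T : Fac L p m N KL) {k w : ℕ} (hw : Prim p (k * m) w) (hk : 3 ≤ k) (h : KL k) :
    w ∣ Nat.card L := by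
  have hm := T.hm
  have h1 : k * m / Nat.gcd (k * m) m = k := by
    rw [Nat.gcd_eq_right (Dvd.intro_left _ rfl), Nat.mul_div_cancel _ (by omega)]
  exact (T.cls _ w hw (by rwa [h1])).2 (by rwa [h1])

/-- what is used of the order `c` of the section -/
structure Sec (L : Type u) [Group L] (c : ℕ) : Prop where
  pi : ∀ w, w.Prime → w ∣ c → w ∣ Nat.card L
  coc : ∀ r s t, r.Prime → s.Prime → t.Prime → r ∣ Nat.card L → s ∣ Nat.card L → t ∣ Nat.card L → r ≠ s → r ≠ t →
    s ≠ t → (¬ ∃ g : L, orderOf g = r * s) → (¬ ∃ g : L, orderOf g = r * t) → (¬ ∃ g : L, orderOf g = s * t) →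
    r ∣ c ∨ s ∣ c

/-- the classes of the section are classes of `L` -/
theorem Sec.ppd {KL : ℕ → Prop} (R : Sec L c) (T : Fac L p m N KL) {K0 : ℕ → Prop} (h0 : ∀ d, 3 ≤ d → KL d → K0 d)
    (h12 : ∀ d, d < 3 → K0 d) : ∀ e, 3 ≤ e → In p c e → K0 (e / Nat.gcd e m) := by
  intro e _ ⟨w, hw, hwc⟩
  rcases Nat.lt_or_ge (e / Nat.gcd e m) 3 with h | h
  · exact h12 _ h
  · exact h0 _ h ((T.cls e w hw h).1 (R.pi w hw.prime hwc))

/-- of two classes one occurs -/
theorem Sec.miss {KL : ℕ → Prop} (R : Sec L c) (T : Fac L p m N KL) (hN : 4 ≤ N) {k l j : ℕ} (hk : 3 ≤ k) (hl : 3 ≤ l)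
    (hj : 3 ≤ j) (kk : KL k) (kl : KL l) (kj : KL j) (hkl : N < eta k + eta l) (hkj : N < eta k + eta j)
    (hlj : N < eta l + eta j) (rkl : Rat k l) (rkj : Rat k j) (rlj : Rat l j) (k6 : k * m ≠ 6) (l6 : l * m ≠ 6)
    (j6 : j * m ≠ 6) : In p c (k * m) ∨ In p c (l * m) := by
  have hm := T.hm
  have h3 : ∀ {a : ℕ}, 3 ≤ a → 3 ≤ a * m := fun {a} ha => by
    have : 3 * 1 ≤ a * m := Nat.mul_le_mul ha hm
    omega
  obtain ⟨r, hr⟩ := exists_prim_two T.hp (h3 hk) k6
  obtain ⟨s, hs⟩ := exists_prim_two T.hp (h3 hl) l6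
  obtain ⟨t, ht⟩ := exists_prim_two T.hp (h3 hj) j6
  have hne : ∀ {a b x y : ℕ}, Prim p (a * m) x → Prim p (b * m) y → Rat a b → x ≠ y := by
    rintro a b x y hx hy hab rfl
    have h1 : a = b := Nat.eq_of_mul_eq_mul_right (by omega) (hx.unique hy)
    exact hab.1 1 rfl (by omega)
  have hna : ∀ {a b x y : ℕ}, Prim p (a * m) x → Prim p (b * m) y → 3 ≤ a → 3 ≤ b → N < eta a + eta b → Rat a b →
      ¬ ∃ g : L, orderOf g = x * y := fun hx hy ha hb hab hR => na_prim T.hp hm T.na hN hx hy ha hb hab hR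
  rcases R.coc r s t hr.prime hs.prime ht.prime (T.dvd_of hr hk kk) (T.dvd_of hs hl kl) (T.dvd_of ht hj kj)
    (hne hr hs rkl) (hne hr ht rkj) (hne hs ht rlj) (hna hr hs hk hl hkl rkl) (hna hr ht hk hj hkj rkj)
    (hna hs ht hl hj hlj rlj) with h | h
  · exact Or.inl ⟨r, hr, h⟩
  · exact Or.inr ⟨s, hs, h⟩

/-- **`Side` from the prime graph.** -/
theorem Sec.side {KL : ℕ → Prop} (R : Sec L c) (T : Fac L p m N KL) (hn : 5 ≤ n) (hN : N = n ∨ (N = n + 1 ∧ n % 2 = 1))
    (h1 : ∀ d, 3 ≤ d → KL d → KC n d) (h2 : ∀ d, MS n d → KL d) (h6 : KL 6) (htp : In p c (2 * n * m)) :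
    Side p n m c := by
  have hm := T.hm
  have hN4 : 4 ≤ N := by omega
  have hKt : KL (2 * n) := h2 _ (Or.inl ⟨by omega, by omega, le_rfl⟩)
  have ht6 : 2 * n * m ≠ 6 := mul_ne_six (by omega) hm
  have hη : ∀ {d : ℕ}, MS n d → n + 1 ≤ 2 * eta d ∧ (d % 2 = 0 → n + 2 ≤ 2 * eta d) ∧ eta d ≤ n ∧ 3 ≤ d := by
    intro d hd
    have h3 := eta_cases d
    unfold MS at hd
    omega
  refine ⟨hn, hm, R.ppd T h1 (fun d hd => ?_), htp, ?_, ?_⟩
  · unfold KC
    omega
  · intro k l hkl hk hl hk6 hl6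
    have h3 := hη hk
    have h4 := hη hl
    have e1 := eta_cases k
    have e2 := eta_cases l
    have e3 : eta (2 * n) = n := by have := eta_cases (2 * n); omega
    by_cases hk2 : k = 2 * n
    · left
      rw [hk2]
      exact htp
    by_cases hl2 : l = 2 * n
    · right
      rw [hl2]
      exact htp
    -- the ratios
    have rt : ∀ d, MS n d → d ≠ 2 * n → Rat (2 * n) d := by
      intro d hd hd2
      unfold MS at hd
      rcases hd with hd | hd
      · exact rat_of_lt (by omega) (by omega)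
      · exact rat_of_parity (by omega) (by omega) (by omega) (by omega)
    have rkl' : ∀ k l, MS n k → MS n l → k < l → Rat l k := by
      intro k l hk hl h
      unfold MS at hk hl
      rcases hk with hk | hk
      · exact rat_of_lt h (by omega)
      · rcases hl with hl | hl
        · exact rat_of_parity (by omega) (by omega) (by omega) h
        · exact rat_of_lt h (by omega)
    have rkl : Rat k l := by
      rcases Nat.lt_or_ge k l with h | h
      · exact (rkl' k l hk hl h).symm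
      · exact rkl' l k hl hk (by omega)
    refine R.miss T hN4 (by omega) (by omega) (by omega : 3 ≤ 2 * n) (h2 _ hk) (h2 _ hl) hKt ?_ ?_ ?_ rkl
      (rt k hk hk2).symm (rt l hl hl2).symm hk6 hl6 ht6
    · unfold MS at hk hl
      omega
    · omega
    · omega
  · rintro rfl
    have e10 : eta 10 = 5 := rfl
    have e8 : eta 8 = 4 := rfl
    have e6 : eta 6 = 3 := rfl
    have e3 : eta 3 = 3 := rfl
    have k8 : KL 8 := h2 _ (Or.inl ⟨by omega, by omega, by omega⟩)
    have k3 : KL 3 := h2 _ (Or.inr ⟨by omega, by omega, by omega⟩)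
    have k10 : KL 10 := hKt
    have ht6' : 10 * m ≠ 6 := ht6
    by_cases h8 : In p c (8 * m)
    · exact Or.inl h8
    · right
      refine ⟨fun hm1 => ?_, fun hm2 => ?_⟩
      · exact (R.miss T hN4 (k := 8) (l := 6) (j := 10) (by norm_num) (by norm_num) (by norm_num) k8 h6 k10
          (by omega) (by omega) (by omega) (rat_of_lt (by norm_num) (by norm_num))
          (rat_of_lt (by norm_num) (by norm_num)).symm (rat_of_lt (by norm_num) (by norm_num)).symm (by omega) (by omega)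
          ht6').resolve_left h8
      · exact (R.miss T hN4 (k := 8) (l := 3) (j := 10) (by norm_num) (by norm_num) (by norm_num) k8 k3 k10
          (by omega) (by omega) (by omega) (rat_of_lt (by norm_num) (by norm_num))
          (rat_of_lt (by norm_num) (by norm_num)).symm
          (rat_of_parity (by norm_num) (by norm_num) (by norm_num) (by norm_num)).symm (by omega) (by omega)
          ht6').resolve_left h8

/-- **`SideP` from the prime graph.** -/
theorem Sec.sideP (R : Sec L c) (T : Fac L p m N (KP n)) (hn : 5 ≤ n) (ho : n % 2 = 1) (htp : In p c (2 * (n - 1) * m))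
    (htpo : In p c (n * m)) : SideP p n m c :=
  ⟨hn, ho, T.hm, R.ppd T (fun _ _ h => h) (fun d hd => by unfold KP; omega), htp, htpo⟩

/-- **`SideF` from the prime graph.** -/
theorem Sec.sideF {KL : ℕ → Prop} (R : Sec L c) (T : Fac L p m N KL)
    (h1 : ∀ d, 3 ≤ d → KL d → (d % 2 = 0 ∧ d ≤ 8) ∨ d ≤ 3) (h8 : In p c (8 * m)) (h6 : m ≠ 1 → In p c (6 * m))
    (h3 : m ≠ 2 → In p c (3 * m)) : SideF p m c :=
  ⟨T.hm, R.ppd T (K0 := fun d => (d % 2 = 0 ∧ d ≤ 8) ∨ d ≤ 3) h1 (fun d hd => by omega), h8, h6, h3⟩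

end Cfsg.Agent.H200.STwo
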