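import Cfsg.Agent.H200.STwo.LFact
import Cfsg.Agent.H150.FarOrthEven
import Cfsg.Agent.S2472

/-!
# The facts about `PSp_2n(q)`, `PΩ_(2n+1)(q)`, `PΩ^±_2n(q)` (helper200)

* `fac_psp`, `fac_oodd`, `fac_oplus`, `fac_ominus` : the structure `Fac`, all characteristics;
* `two_psp`, `two_oplus`, `two_ominus` : primes not adjacent to 2 in characteristic two.
-/

set_option autoImplicit false

namespace Cfsg.Agent.H200.STwo

open Module Cfsg Matrix QuadraticMap
open Cfsg.Agent.OrdDiv Cfsg.Agent.H436 Cfsg.Agent.H425.PartP Cfsg.Agent.H425.Chr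
open Cfsg.Agent.LieClassical.OrthCount Cfsg.Agent.LieClassical.OmegaReindex Cfsg.Agent.LieClassical
open Cfsg.Agent.H390 (NA na_psp na_pomega)

variable {p m n : ℕ} {F : Type} [Field F] [Fintype F]

/-- the classes of the primes of the order from a name -/
theorem cls_of (hp : p.Prime) (hm : 1 ≤ m) {g : Grp} (hq : qOf g = p ^ m) {c : ℕ} (h : den g * c = num g) {e w : ℕ}
    (hw : Prim p e w) (he : 3 ≤ e / Nat.gcd e m) : w ∣ c ↔ K g (e / Nat.gcd e m) :=
  dvd_iff (hp.two_le.trans (Nat.le_self_pow (by omega) p)) he (prim_quot (by omega) hw) hq h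

theorem fac_psp (hp : p.Prime) (hm : 1 ≤ m) (hF : Fintype.card F = p ^ m) (hn : 3 ≤ n) : Fac (PSp n F) p m n (KC n) := by
  refine ⟨hp, hm, ?_, fun e w hw he => ?_⟩
  · have := na_psp (F := F) (n := n) (by omega) (by omega)
    rwa [Nat.card_eq_fintype_card, hF] at this
  · have h1 := psp_eq (F := F) (m := n) (by omega)
    have h2 := cls_of (g := .psp n (Fintype.card F)) hp hm hF h1 hw he
    rw [h2, K_psp (by omega)]
    rfl

theorem fac_oodd (hp : p.Prime) (hm : 1 ≤ m) (hF : Fintype.card F = p ^ m) (hn : 3 ≤ n) (hodd : Odd (Fintype.card F)) :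
    Fac (POmega F (quadFormOdd n F)) p m n (KC n) := by
  have h2 := Cfsg.Agent.H390.two_ne_zero_of_odd hodd
  have hcard : Fintype.card (Unit ⊕ (Fin n ⊕ Fin n)) = 2 * n + 1 := by simp; ring
  have hD : Cfsg.Agent.H390.Lift.Data (quadOdd n F) := Cfsg.Agent.H390.data_of _ (quadOdd_nondegenerate h2)
    (by rw [hcard]; omega) (quadOdd_isotropic (by omega)) (Or.inr (by rw [hcard]; omega))
  refine ⟨hp, hm, ?_, fun e w hw he => ?_⟩
  · have := na_pomega hD (n := n) (by rw [hcard])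
    rwa [coe_quadOdd, Nat.card_eq_fintype_card, hF] at this
  · have h1 := oodd_eq (F := F) (m := n) (by omega) hodd
    have h2 := cls_of (g := .oodd n (Fintype.card F)) hp hm hF h1 hw he
    rw [h2, K_oodd (by omega)]
    rfl

/-- the classes of `PΩ⁻_2n(q)` -/
def KM (n d : ℕ) : Prop := (d % 2 = 0 ∧ d ≤ 2 * n) ∨ (d % 2 = 1 ∧ d ≤ n - 1)

theorem fac_oplus (hp : p.Prime) (hm : 1 ≤ m) (hF : Fintype.card F = p ^ m) (hn : 4 ≤ n) :
    Fac (POmega F (quadFormPlus n F)) p m n (KP n) := by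
  have hcard : Fintype.card (Fin n ⊕ Fin n) = 2 * n := by simp; ring
  have hD : Cfsg.Agent.H390.Lift.Data (quadPlus n F) := Cfsg.Agent.H390.data_of _ quadPlus_nondegenerate
    (by rw [hcard]; omega) (quadPlus_isotropic (by omega)) (Or.inr (by rw [hcard]; omega))
  refine ⟨hp, hm, ?_, fun e w hw he => ?_⟩
  · have := na_pomega hD (n := n) (by rw [hcard]; omega)
    rwa [coe_quadPlus, Nat.card_eq_fintype_card, hF] at this
  · have h1 := oplus_eq (F := F) (m := n) hn
    have h2 := cls_of (g := .oplus n (Fintype.card F)) hp hm hF h1 hw he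
    rw [h2, K_oplus (by omega) (by omega)]
    rfl

theorem fac_ominus (hp : p.Prime) (hm : 1 ≤ m) (hF : Fintype.card F = p ^ m) (hn : 4 ≤ n) {a b : F}
    (hab : ∀ z₁ z₂ : F, z₁ ^ 2 + a * z₁ * z₂ + b * z₂ ^ 2 = 0 → z₁ = 0 ∧ z₂ = 0) :
    Fac (POmega F (quadFormMinus (n - 1) F a b)) p m n (KM n) := by
  have hcard : Fintype.card ((Fin (n - 1) ⊕ Fin (n - 1)) ⊕ Fin 2) = 2 * n := by simp; omega
  have hD : Cfsg.Agent.H390.Lift.Data (quadMinus (n - 1) F a b) := Cfsg.Agent.H390.data_of _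
    (quadMinus_nondegenerate hab) (by rw [hcard]; omega) (quadMinus_isotropic (by omega) a b)
    (Or.inr (by rw [hcard]; omega))
  refine ⟨hp, hm, ?_, fun e w hw he => ?_⟩
  · have := na_pomega hD (n := n) (by rw [hcard]; omega)
    rwa [coe_quadMinus, Nat.card_eq_fintype_card, hF] at this
  · have h1 := ominus_eq (F := F) (m := n) hn hab
    have h2 := cls_of (g := .ominus n (Fintype.card F)) hp hm hF h1 hw he
    rw [h2, K_ominus (by omega) (by omega)]
    rfl

end Cfsg.Agent.H200.STwo
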