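import Cfsg.Agent.H200.STwo.LInst

/-!
# Primes not adjacent to the characteristic (helper200)

* `chr_psp` : `η(k) = n` in `PSp_2n(q)`, all characteristics (S2472);
* `two_oplus`, `two_ominus` : `η(k) = n` or `η(k) = n - 1` in `PΩ^±_2n(q)`, `q` even.
-/

set_option autoImplicit false

namespace Cfsg.Agent.H200.STwo

open Module Cfsg Matrix QuadraticMap
open Cfsg.Agent.OrdDiv Cfsg.Agent.H436 Cfsg.Agent.H425.PartP Cfsg.Agent.H425.Chr
open Cfsg.Agent.LieClassical.OrthCount Cfsg.Agent.LieClassical.OmegaReindex Cfsg.Agent.LieClassical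

variable {p m n : ℕ} {F : Type} [Field F] [Fintype F]

theorem char_of_card {p : ℕ} (hp : p.Prime) (hF : Fintype.card F = p ^ m) : CharP F p := by
  obtain ⟨q, _⟩ := CharP.exists F
  obtain ⟨k, hq, hk⟩ := FiniteField.card F q
  have h1 : q ∣ p ^ m := by
    rw [← hF, hk]
    exact dvd_pow_self _ k.ne_zero
  have h2 : q = p := (Nat.prime_dvd_prime_iff_eq hq hp).1 (hq.dvd_of_dvd_pow h1)
  subst h2
  assumption

omit [Field F] in
theorem order_q (hp : p.Prime) (hm : 1 ≤ m) (hF : Fintype.card F = p ^ m) {k w : ℕ} (hw : Prim p (k * m) w) :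
    orderOf ((Fintype.card F : ℕ) : ZMod w) = k := by
  rw [hF]
  exact orderOf_prim (Nat.one_le_pow _ _ hp.pos) (prim_of_pow (by omega) (by rwa [mul_comm] at hw))

theorem prim_ne {e w : ℕ} (hw : Prim p e w) (hp : p.Prime) (he : 3 ≤ e) : w ≠ p := by
  rintro rfl
  have h1 : w ∣ w ^ e - 1 := (hw.dvd_iff e).2 dvd_rfl
  have h2 : w ∣ w ^ e := dvd_pow_self _ (by omega)
  have h3 : 1 ≤ w ^ e := Nat.one_le_pow _ _ hp.pos
  have h4 : w ∣ 1 := by
    have := Nat.dvd_sub h2 h1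
    rwa [show w ^ e - (w ^ e - 1) = 1 by omega] at this
  exact hp.one_lt.ne' (Nat.dvd_one.1 h4)

theorem prim_ne_two {e w : ℕ} (hw : Prim p e w) (he : 3 ≤ e) : w ≠ 2 := by
  have := hw.odd (by omega)
  rintro rfl
  omega

theorem natCast_ne_zero (hp : p.Prime) (hF : Fintype.card F = p ^ m) {w : ℕ} (hw : w.Prime) (hne : w ≠ p) :
    (w : F) ≠ 0 := by
  have := char_of_card (F := F) hp hF
  intro h
  rw [CharP.cast_eq_zero_iff F p] at h
  exact hne ((Nat.prime_dvd_prime_iff_eq hp hw).1 h).symm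

/-- `PSp_2n(q)` -/
theorem chr_psp (hp : p.Prime) (hm : 1 ≤ m) (hF : Fintype.card F = p ^ m) (hn : 3 ≤ n) {k w : ℕ}
    (hk : k = 2 * n ∨ (k = n ∧ n % 2 = 1)) (hw : Prim p (k * m) w) : ¬ ∃ g : PSp n F, orderOf g = p * w := by
  have := Fact.mk hp
  have := char_of_card (F := F) hp hF
  have hk3 : 3 ≤ k := by omega
  have he : 3 * 1 ≤ k * m := Nat.mul_le_mul hk3 hm
  have T := fac_psp (n := n) hp hm hF hn
  have hdvd : w ∣ Nat.card (PSp n F) := T.dvd_of hw hk3 (by unfold KC; omega)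
  rintro ⟨g, hg⟩
  refine (Cfsg.Agent.S2472.result (F := F) p n (by omega) (by omega) w hw.prime (prim_ne_two hw (by omega))
    (prim_ne hw hp (by omega)) hdvd k (eta k) (order_q hp hm hF hw).symm ?_).2 ?_ ⟨g, ?_⟩
  · rcases eta_cases k with ⟨h1, h2⟩ | ⟨h1, h2⟩
    · exact Or.inr ⟨Nat.even_iff.2 h1, by omega⟩
    · exact Or.inl ⟨Nat.odd_iff.2 h1, h2⟩
  · have := eta_cases k
    omega
  · simp only [hg, mul_comm]

theorem two_zero (hF : Fintype.card F = 2 ^ m) : (2 : F) = 0 := by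
  have := char_of_card (F := F) Nat.prime_two hF
  exact CharTwo.two_eq_zero

/-- `PΩ⁺_2n(q)`, `q` even -/
theorem two_oplus (hm : 1 ≤ m) (hF : Fintype.card F = 2 ^ m) (hn : 4 ≤ n) {k w : ℕ}
    (hk : k = 2 * n ∨ (k = n ∧ n % 2 = 1) ∨ k = 2 * (n - 1) ∨ (k = n - 1 ∧ (n - 1) % 2 = 1)) (hw : Prim 2 (k * m) w) :
    ¬ ∃ g : POmega F (quadFormPlus n F), orderOf g = 2 * w := by
  have he : 3 * 1 ≤ k * m := Nat.mul_le_mul (by omega) hm
  have h2 := two_zero (F := F) hF
  have ho : orderOf ((Nat.card F : ℕ) : ZMod w) = k := by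
    rw [Nat.card_eq_fintype_card]
    exact order_q Nat.prime_two hm hF hw
  have hw2 := prim_ne_two hw (by omega)
  have hwF := natCast_ne_zero Nat.prime_two hF hw.prime hw2
  have hdim : finrank F (Fin n ⊕ Fin n → F) = 2 * n := by
    rw [finrank_fintype_fun_eq_card]
    simp
    ring
  have key : ¬ ∃ g : POmega F ⇑(quadPlus n F), orderOf g = 2 * w := by
    rintro ⟨g, hg⟩
    rcases hk with h | h | h | h
    · exact Cfsg.Agent.H150.gen_full_even h2 (quadPlus n F) quadPlus_nondegenerate hdim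
        (Cfsg.Agent.H150.quadPlus_sing (by omega)) hw.prime hw2 hwF (by omega) ho
        (Or.inr ⟨⟨n, by omega⟩, by omega⟩) g hg
    · exact Cfsg.Agent.H150.gen_full_even h2 (quadPlus n F) quadPlus_nondegenerate hdim
        (Cfsg.Agent.H150.quadPlus_sing (by omega)) hw.prime hw2 hwF (by omega) ho
        (Or.inl ⟨Nat.odd_iff.2 (by omega), by omega⟩) g hg
    · exact Cfsg.Agent.H150.gen_partial_even h2 (quadPlus n F) quadPlus_nondegenerate hdim
        (Cfsg.Agent.H150.quadPlus_sing (by omega)) hw.prime hw2 hwF (by omega) ho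
        (Or.inr ⟨⟨n - 1, by omega⟩, by omega⟩) g hg
    · exact Cfsg.Agent.H150.gen_partial_even h2 (quadPlus n F) quadPlus_nondegenerate hdim
        (Cfsg.Agent.H150.quadPlus_sing (by omega)) hw.prime hw2 hwF (by omega) ho
        (Or.inl ⟨Nat.odd_iff.2 (by omega), by omega⟩) g hg
  rwa [coe_quadPlus] at key

/-- `PΩ⁻_2n(q)`, `q` even -/
theorem two_ominus (hm : 1 ≤ m) (hF : Fintype.card F = 2 ^ m) (hn : 4 ≤ n) {a b : F}
    (hab : ∀ z₁ z₂ : F, z₁ ^ 2 + a * z₁ * z₂ + b * z₂ ^ 2 = 0 → z₁ = 0 ∧ z₂ = 0) {k w : ℕ}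
    (hk : k = 2 * n ∨ (k = n ∧ n % 2 = 1) ∨ k = 2 * (n - 1) ∨ (k = n - 1 ∧ (n - 1) % 2 = 1)) (hw : Prim 2 (k * m) w) :
    ¬ ∃ g : POmega F (quadFormMinus (n - 1) F a b), orderOf g = 2 * w := by
  have he : 3 * 1 ≤ k * m := Nat.mul_le_mul (by omega) hm
  have h2 := two_zero (F := F) hF
  have ho : orderOf ((Nat.card F : ℕ) : ZMod w) = k := by
    rw [Nat.card_eq_fintype_card]
    exact order_q Nat.prime_two hm hF hw
  have hw2 := prim_ne_two hw (by omega)
  have hwF := natCast_ne_zero Nat.prime_two hF hw.prime hw2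
  have hdim : finrank F ((Fin (n - 1) ⊕ Fin (n - 1)) ⊕ Fin 2 → F) = 2 * n := by
    rw [finrank_fintype_fun_eq_card]
    simp
    omega
  have key : ¬ ∃ g : POmega F ⇑(quadMinus (n - 1) F a b), orderOf g = 2 * w := by
    rintro ⟨g, hg⟩
    rcases hk with h | h | h | h
    · exact Cfsg.Agent.H150.gen_full_even h2 (quadMinus (n - 1) F a b) (quadMinus_nondegenerate hab) hdim
        (Cfsg.Agent.H150.quadMinus_sing (by omega) a b) hw.prime hw2 hwF (by omega) ho
        (Or.inr ⟨⟨n, by omega⟩, by omega⟩) g hg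
    · exact Cfsg.Agent.H150.gen_full_even h2 (quadMinus (n - 1) F a b) (quadMinus_nondegenerate hab) hdim
        (Cfsg.Agent.H150.quadMinus_sing (by omega) a b) hw.prime hw2 hwF (by omega) ho
        (Or.inl ⟨Nat.odd_iff.2 (by omega), by omega⟩) g hg
    · exact Cfsg.Agent.H150.gen_partial_even h2 (quadMinus (n - 1) F a b) (quadMinus_nondegenerate hab) hdim
        (Cfsg.Agent.H150.quadMinus_sing (by omega) a b) hw.prime hw2 hwF (by omega) ho
        (Or.inr ⟨⟨n - 1, by omega⟩, by omega⟩) g hg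
    · exact Cfsg.Agent.H150.gen_partial_even h2 (quadMinus (n - 1) F a b) (quadMinus_nondegenerate hab) hdim
        (Cfsg.Agent.H150.quadMinus_sing (by omega) a b) hw.prime hw2 hwF (by omega) ho
        (Or.inl ⟨Nat.odd_iff.2 (by omega), by omega⟩) g hg
  rwa [coe_quadMinus] at key

end Cfsg.Agent.H200.STwo
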