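import Cfsg.Agent.H200.STwo.Side

/-!
# The groups which remain (helper200)

`Side.main` : `g` is `PSL_n(q²)` or (over the field of `q` elements) `PSp_2n`, `PΩ_(2n+1)`, `PΩ⁻_2n`, `U_n`, `U_(n+1)`,
`PΩ⁺_(2n+2)` (`n` odd), `E₇`, `²E₆` (`n = 9`). `Side.odd`, `Side.even` : the same with the primes not adjacent to `p`.
-/

set_option autoImplicit false

namespace Cfsg.Agent.H200.STwo

open Cfsg Cfsg.Agent.OrdDiv Cfsg.Agent.H436 Cfsg.Agent.H425.PartP Cfsg.Agent.H425.Chr

variable {p n m f c : ℕ} {g : Grp}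

theorem gcd_mul_of_coprime {a b m : ℕ} (h : Nat.Coprime a b) : Nat.gcd (a * m) (b * m) = m := by
  rw [Nat.gcd_mul_right, h.gcd_eq_one, one_mul]

theorem div_of {a m : ℕ} (hm : 1 ≤ m) : a * m / m = a := Nat.mul_div_cancel _ (by omega)

theorem mul_ne_six {a m : ℕ} (ha : 7 ≤ a) (hm : 1 ≤ m) : a * m ≠ 6 := by
  have : 7 * 1 ≤ a * m := Nat.mul_le_mul ha hm
  omega

/-- an odd class `a` over `q`, seen over the field of `2 ^ (b m)` elements -/
theorem Dat.cls_odd (H : Dat p f c g) {a b : ℕ} (hm : 1 ≤ m) (hf : f = b * m) (hab : Nat.Coprime a b) (ha : 3 ≤ a)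
    (h : In p c (a * m)) : K g a := by
  have h1 : a * m / Nat.gcd (a * m) f = a := by
    rw [hf, gcd_mul_of_coprime hab, div_of hm]
  have h2 := H.in_cls (e := a * m) (by rwa [h1]) h
  rwa [h1] at h2

theorem Side.odd_ne (P : Side p n m c) (he : n % 2 = 0) : (n - 1) * m ≠ 6 := by
  intro h
  have h1 := P.hn
  have h2 : (n - 1) ∣ 6 := Dvd.intro _ h
  have h3 := Nat.le_of_dvd (by norm_num) h2
  have h4 : n = 6 := by omega
  subst h4
  omega

/-- the pair of classes `n - 1`, `2 (n - 1)` for even `n` -/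
theorem Side.pair (P : Side p n m c) (he : n % 2 = 0) : In p c ((n - 1) * m) ∨ In p c ((2 * (n - 1)) * m) := by
  have hn := P.hn
  have hm := P.hm
  exact P.miss (n - 1) (2 * (n - 1)) (by omega) (Or.inr ⟨by omega, by omega, by omega⟩)
    (Or.inl ⟨by omega, by omega, by omega⟩) (P.odd_ne he) (mul_ne_six (by omega) hm)

theorem Side.four (P : Side p n m c) (H : Dat p f c g) (hf : f = 4 * m) : False := by
  have hn := P.hn
  have hm := P.hm
  have hft := P.ftop H
  have htop := two_le_top H.cond H.q_ne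
  have h1 : n = 2 * top g := by
    rw [hf] at hft
    have h2 : (2 * m) * n = (2 * m) * (2 * top g) := by
      rw [show (2 * m) * n = 2 * n * m by ring, ← hft]
      ring
    exact Nat.eq_of_mul_eq_mul_left (by omega) h2
  rcases P.pair (by omega) with h | h
  · have h2 : Nat.Coprime (n - 1) 4 := by
      have h3 : Nat.Coprime (n - 1) 2 := (Nat.coprime_two_left.mpr (Nat.odd_iff.2 (by omega))).symm
      exact Nat.Coprime.pow_right 2 h3
    have h3 := H.cls_odd hm hf h2 (by omega) h
    have := K_le_top H.cond H.q_ne (by omega) h3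
    omega
  · have h2 : n * m < 2 * (n - 1) * m := Nat.mul_lt_mul_of_pos_right (by omega) (by omega)
    have h3 := P.fdvd H h h2
    rw [hf] at h3
    have h4 : 4 ∣ 2 * (n - 1) := Nat.dvd_of_mul_dvd_mul_right (by omega) h3
    omega

theorem Side.two (P : Side p n m c) (H : Dat p f c g) (hf : f = 2 * m) : g = .psl n (p ^ (2 * m)) := by
  have hn := P.hn
  have hm := P.hm
  have hft := P.ftop H
  have h1 : n = top g := by
    rw [hf] at hft
    have h2 : (2 * m) * n = (2 * m) * (top g) := by
      rw [show (2 * m) * n = 2 * n * m by ring, ← hft]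
    exact Nat.eq_of_mul_eq_mul_left (by omega) h2
  by_cases hpsl : isPSL g
  · cases g with
    | psl k q =>
      have h3 : q = p ^ f := H.hq
      change n = k at h1
      rw [h1, h3, hf]
    | _ => exact hpsl.elim
  · exfalso
    have h2 := top_even H.cond H.q_ne hpsl
    have h3 : Nat.Coprime (n - 1) 2 := (Nat.coprime_two_left.mpr (Nat.odd_iff.2 (by omega))).symm
    have h4 : K g (n - 1) := by
      rcases P.pair (by omega) with h | h
      · exact H.cls_odd hm hf h3 (by omega) h
      · refine H.cls_mul (d := n - 1) (by omega) ?_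
        rwa [hf, show 2 * m * (n - 1) = 2 * (n - 1) * m by ring]
    have := odd_le_top H.cond H.q_ne hpsl (by omega) (by omega) h4
    omega

theorem KC_iff {d : ℕ} : KC n d ↔ (d % 2 = 0 ∧ d ≤ 2 * n) ∨ (d % 2 = 1 ∧ d ≤ n) := Iff.rfl

theorem Side.half (P : Side p n m c) (H : Dat p f c g) (hf : 2 * f = m) : False := by
  have hn := P.hn
  have hm := P.hm
  have hft := P.ftop H
  have hf0 := H.hf
  have h1 : top g = 4 * n := by
    have h2 : f * top g = f * (4 * n) := by
      rw [hft, ← hf]
      ring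
    exact Nat.eq_of_mul_eq_mul_left (by omega) h2
  -- odd classes
  have hodd : ∀ d, 7 ≤ d → d % 2 = 1 → K g d → d ≤ n := by
    intro d hd ho hK
    have h3 : In p c (f * d) := H.in_mul (by omega) (by rw [mul_comm]; exact mul_ne_six hd (by omega)) hK
    have h4 := P.ppd (f * d) (by nlinarith) h3
    have h5 : Nat.gcd (f * d) m = f := by
      rw [← hf, mul_comm f d]
      exact gcd_mul_of_coprime (Nat.coprime_two_left.mpr (Nat.odd_iff.2 ho)).symm
    rw [h5, Nat.mul_div_cancel_left _ (by omega), KC_iff] at h4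
    omega
  have heven : ∀ d, 7 ≤ 2 * d → d % 2 = 1 → K g (2 * d) → d ≤ n := by
    intro d hd ho hK
    have h3 : In p c (f * (2 * d)) := H.in_mul (by omega) (by rw [mul_comm]; exact mul_ne_six hd (by omega)) hK
    have h4 := P.ppd (f * (2 * d)) (by nlinarith) h3
    have h5 : Nat.gcd (f * (2 * d)) m = m := by
      rw [← hf, show f * (2 * d) = 2 * f * d by ring]
      exact Nat.gcd_eq_right (Dvd.intro _ rfl)
    rw [h5, ← hf, show f * (2 * d) = 2 * f * d by ring, Nat.mul_div_cancel_left _ (by omega), KC_iff] at h4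
    omega
  cases g with
  | psl k q =>
    change k = 4 * n at h1
    have := hodd (k - 1) (by omega) (by omega) (by rw [K_psl]; omega)
    omega
  | psp k q =>
    change 2 * k = 4 * n at h1
    have := heven (2 * n - 1) (by omega) (by omega) (by rw [K_psp (by omega)]; omega)
    omega
  | oodd k q =>
    change 2 * k = 4 * n at h1
    have := heven (2 * n - 1) (by omega) (by omega) (by rw [K_oodd (by omega)]; omega)
    omega
  | psu k q =>
    have hk : 3 ≤ k := H.cond.1
    change 2 * (k - (1 - k % 2)) = 4 * n at h1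
    omega
  | oplus k q =>
    have hk : 4 ≤ k := H.cond.1
    change 2 * (k - 1) = 4 * n at h1
    have := heven (2 * n - 1) (by omega) (by omega) (by rw [K_oplus (by omega) (by omega)]; omega)
    omega
  | ominus k q =>
    have hk : 4 ≤ k := H.cond.1
    change 2 * k = 4 * n at h1
    have := heven (2 * n - 1) (by omega) (by omega) (by rw [K_ominus (by omega) (by omega)]; omega)
    omega
  | g2 q => change 6 = 4 * n at h1; omega
  | f4 q => change 12 = 4 * n at h1; omega
  | e6 q => change 12 = 4 * n at h1; omega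
  | e7 q => change 18 = 4 * n at h1; omega
  | e8 q => change 30 = 4 * n at h1; omega
  | te6 q => change 18 = 4 * n at h1; omega
  | td4 q => change 12 = 4 * n at h1; omega
  | sz q => change 4 = 4 * n at h1; omega
  | ree q => change 6 = 4 * n at h1; omega
  | tf4 q => change 12 = 4 * n at h1; omega
  | _ => exact absurd rfl H.q_ne

/-- the groups over the field of `q` elements which remain -/
def Surv (p n m : ℕ) (g : Grp) : Prop :=
  g = .psp n (p ^ m) ∨ g = .oodd n (p ^ m) ∨ g = .ominus n (p ^ m) ∨ (n % 2 = 1 ∧ (g = .psu n (p ^ m) ∨ g = .psu (n + 1) (p ^ m))) ∨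
    (n % 2 = 1 ∧ g = .oplus (n + 1) (p ^ m)) ∨ (n = 9 ∧ g = .e7 (p ^ m)) ∨ (n = 9 ∧ g = .te6 (p ^ m))

theorem Side.one (P : Side p n m c) (H : Dat p m c g) : Surv p n m g := by
  have hn := P.hn
  have hm := P.hm
  have hft := P.ftop H
  have h1 : top g = 2 * n := by
    have h2 : m * top g = m * (2 * n) := by
      rw [hft]
      ring
    exact Nat.eq_of_mul_eq_mul_left (by omega) h2
  have hK : ∀ d, 7 ≤ d → K g d → KC n d := by
    intro d hd hK
    have h3 : In p c (m * d) := H.in_mul (by omega) (by rw [mul_comm]; exact mul_ne_six hd hm) hK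
    have h4 := P.ppd (m * d) (by nlinarith) h3
    rwa [Nat.gcd_eq_right (Dvd.intro _ rfl), Nat.mul_div_cancel_left _ (by omega)] at h4
  have hmis : ∀ k l, k ≠ l → MS n k → MS n l → k * m ≠ 6 → l * m ≠ 6 → ¬ K g k → ¬ K g l → False := by
    intro k l hkl hk hl hk6 hl6 h3 h4
    have h5 : 3 ≤ k := by unfold MS at hk; omega
    have h6 : 3 ≤ l := by unfold MS at hl; omega
    rcases P.miss k l hkl hk hl hk6 hl6 with h | h
    · exact h3 (H.cls_mul h5 (by rwa [mul_comm]))
    · exact h4 (H.cls_mul h6 (by rwa [mul_comm]))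
  have hq := H.hq
  have five6 : n = 6 → ¬ K g 5 → ¬ K g 10 → False := by
    rintro rfl h5 h10
    refine hmis 5 10 (by norm_num) (Or.inr ⟨by norm_num, by norm_num, by norm_num⟩)
      (Or.inl ⟨by norm_num, by norm_num, by norm_num⟩) (by omega) (by omega) h5 h10
  cases g with
  | psl k q =>
    exfalso
    change k = 2 * n at h1
    have h3 := hK (k - 1) (by omega) (by rw [K_psl]; omega)
    rw [KC_iff] at h3
    omega
  | psp k q =>
    change 2 * k = 2 * n at h1
    obtain rfl : q = p ^ m := hq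
    obtain rfl : k = n := by omega
    exact Or.inl rfl
  | oodd k q =>
    change 2 * k = 2 * n at h1
    obtain rfl : q = p ^ m := hq
    obtain rfl : k = n := by omega
    exact Or.inr (Or.inl rfl)
  | psu k q =>
    have hk : 3 ≤ k := H.cond.1
    change 2 * (k - (1 - k % 2)) = 2 * n at h1
    obtain rfl : q = p ^ m := hq
    have h3 : n % 2 = 1 ∧ (k = n ∨ k = n + 1) := by omega
    obtain ⟨h3, rfl | rfl⟩ := h3
    · exact Or.inr (Or.inr (Or.inr (Or.inl ⟨h3, Or.inl rfl⟩)))
    · exact Or.inr (Or.inr (Or.inr (Or.inl ⟨h3, Or.inr rfl⟩)))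
  | oplus k q =>
    have hk : 4 ≤ k := H.cond.1
    change 2 * (k - 1) = 2 * n at h1
    obtain rfl : q = p ^ m := hq
    obtain rfl : k = n + 1 := by omega
    rcases Nat.mod_two_eq_zero_or_one n with h3 | h3
    · exfalso
      have h4 := hK (n + 1) (by omega) (by rw [K_oplus (by omega) (by omega)]; omega)
      rw [KC_iff] at h4
      omega
    · exact Or.inr (Or.inr (Or.inr (Or.inr (Or.inl ⟨h3, rfl⟩))))
  | ominus k q =>
    change 2 * k = 2 * n at h1
    obtain rfl : q = p ^ m := hq
    obtain rfl : k = n := by omega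
    exact Or.inr (Or.inr (Or.inl rfl))
  | g2 q => change 6 = 2 * n at h1; omega
  | f4 q =>
    change 12 = 2 * n at h1
    exact (five6 (by omega) (fun h => by have := K_f4 h; omega) (fun h => by have := K_f4 h; omega)).elim
  | e6 q =>
    change 12 = 2 * n at h1
    exfalso
    have h3 := hK 9 (by norm_num) (Or.inr (Or.inr (Or.inr (Or.inr (Or.inl dvd_rfl)))))
    rw [KC_iff] at h3
    omega
  | e7 q =>
    change 18 = 2 * n at h1
    obtain rfl : q = p ^ m := hq
    exact Or.inr (Or.inr (Or.inr (Or.inr (Or.inr (Or.inl ⟨by omega, rfl⟩)))))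
  | e8 q =>
    change 30 = 2 * n at h1
    exfalso
    obtain rfl : n = 15 := by omega
    exact hmis 26 28 (by norm_num) (Or.inl ⟨by norm_num, by norm_num, by norm_num⟩)
      (Or.inl ⟨by norm_num, by norm_num, by norm_num⟩) (by omega) (by omega) (fun h => by have := K_e8 h; omega)
      (fun h => by have := K_e8 h; omega)
  | te6 q =>
    change 18 = 2 * n at h1
    obtain rfl : q = p ^ m := hq
    exact Or.inr (Or.inr (Or.inr (Or.inr (Or.inr (Or.inr ⟨by omega, rfl⟩)))))
  | td4 q =>
    change 12 = 2 * n at h1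
    exact (five6 (by omega) (fun h => by have := K_td4 h; omega) (fun h => by have := K_td4 h; omega)).elim
  | sz q => change 4 = 2 * n at h1; omega
  | ree q => change 6 = 2 * n at h1; omega
  | tf4 q =>
    change 12 = 2 * n at h1
    exact (five6 (by omega) (fun h => by have := K_tf4 h; omega) (fun h => by have := K_tf4 h; omega)).elim
  | _ => exact absurd rfl H.q_ne

/-- **The groups of Lie type in characteristic `p` which remain.** -/
theorem Side.main (P : Side p n m c) (H : Dat p f c g) : g = .psl n (p ^ (2 * m)) ∨ (f = m ∧ Surv p n m g) := by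
  rcases P.ratio H with h | h | h | h
  · subst h
    exact Or.inr ⟨rfl, P.one H⟩
  · exact Or.inl (P.two H h)
  · exact (P.four H h).elim
  · exact (P.half H h).elim

/-- `n` odd and the class `n` occurs -/
theorem Side.odd (P : Side p n m c) (H : Dat p f c g) (_ho : n % 2 = 1) (h : In p c (n * m)) :
    g = .psl n (p ^ (2 * m)) ∨ g = .psp n (p ^ m) ∨ g = .oodd n (p ^ m) ∨ g = .oplus (n + 1) (p ^ m) ∨
      (n = 9 ∧ g = .e7 (p ^ m)) := by
  have hn := P.hn
  rcases P.main H with h1 | ⟨rfl, h1⟩
  · exact Or.inl h1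
  · have hK : K g n := H.cls_mul (by omega) (by rwa [mul_comm])
    rcases h1 with rfl | rfl | rfl | ⟨h2, rfl | rfl⟩ | ⟨h2, rfl⟩ | ⟨rfl, rfl⟩ | ⟨rfl, rfl⟩
    · exact Or.inr (Or.inl rfl)
    · exact Or.inr (Or.inr (Or.inl rfl))
    · exfalso
      rw [K_ominus (by omega) (by omega)] at hK
      omega
    · exfalso
      rw [K_psu (by omega)] at hK
      omega
    · exfalso
      rw [K_psu (by omega)] at hK
      omega
    · exact Or.inr (Or.inr (Or.inr (Or.inl rfl)))
    · exact Or.inr (Or.inr (Or.inr (Or.inr ⟨rfl, rfl⟩)))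
    · exfalso
      have := K_te6 hK
      omega

/-- `n` even -/
theorem Side.even (P : Side p n m c) (H : Dat p f c g) (ho : n % 2 = 0) :
    g = .psl n (p ^ (2 * m)) ∨ g = .psp n (p ^ m) ∨ g = .oodd n (p ^ m) ∨ g = .ominus n (p ^ m) := by
  rcases P.main H with h1 | ⟨rfl, h1⟩
  · exact Or.inl h1
  · rcases h1 with h1 | h1 | h1 | ⟨h2, -⟩ | ⟨h2, -⟩ | ⟨h2, -⟩ | ⟨h2, -⟩
    · exact Or.inr (Or.inl h1)
    · exact Or.inr (Or.inr (Or.inl h1))
    · exact Or.inr (Or.inr (Or.inr h1))
    all_goals omega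

/-- `Ω⁻_2n(q)`, `n` odd : the class `n` does not occur and the class `2 n - 2` occurs -/
theorem Side.minus (P : Side p n m c) (H : Dat p f c g) (ho : n % 2 = 1) (h : In p c (2 * (n - 1) * m))
    (hno : ¬ In p c (n * m)) : g = .ominus n (p ^ m) := by
  have hn := P.hn
  have hm := P.hm
  have h6 : n * m ≠ 6 := by
    intro h6
    have h2 : n ∣ 6 := Dvd.intro _ h6
    have h3 := Nat.le_of_dvd (by norm_num) h2
    have h4 : n = 5 := by omega
    subst h4
    omega
  have hno' : ¬ K g n ∨ f ≠ m := by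
    by_contra hcon
    push Not at hcon
    obtain ⟨h1, rfl⟩ := hcon
    exact hno (by rw [mul_comm]; exact H.in_mul (by omega) (by rwa [mul_comm]) h1)
  rcases P.main H with h1 | ⟨rfl, h1⟩
  · exfalso
    apply hno
    have hf : f = 2 * m := by
      have h2 : qOf g = p ^ (2 * m) := by rw [h1]; rfl
      rw [H.hq] at h2
      exact Nat.pow_right_injective H.hp.two_le h2
    have h3 : n * m / Nat.gcd (n * m) f = n := by
      rw [hf, gcd_mul_of_coprime (Nat.coprime_two_left.mpr (Nat.odd_iff.2 ho)).symm, div_of hm]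
    exact H.in_of (by rw [h3]; omega) h6 (by rw [h3, h1]; exact le_rfl)
  · have hno'' : ¬ K g n := hno'.resolve_right (fun h => h rfl)
    have hK : K g (2 * (n - 1)) := H.cls_mul (by omega) (by rwa [mul_comm] at h)
    rcases h1 with rfl | rfl | rfl | ⟨h2, rfl | rfl⟩ | ⟨h2, rfl⟩ | ⟨rfl, rfl⟩ | ⟨rfl, rfl⟩
    · exact (hno'' (by rw [K_psp (by omega)]; omega)).elim
    · exact (hno'' (by rw [K_oodd (by omega)]; omega)).elim
    · rfl
    · exfalso
      rw [K_psu (by omega)] at hK
      omega
    · exfalso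
      rw [K_psu (by omega)] at hK
      omega
    · exact (hno'' (by rw [K_oplus (by omega) (by omega)]; omega)).elim
    · exfalso
      have := K_e7 hK
      omega
    · exfalso
      have := K_te6 hK
      omega

end Cfsg.Agent.H200.STwo
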