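import Cfsg.Agent.H200.STwo.LTwo
import Cfsg.Agent.H200.STwo.FamDat
import Cfsg.Agent.H403.S88.Def
import Cfsg.Agent.H426.LieEx

/-!
# The survivors of the exponent comparison, in terms of `H403.S88` (helper200)

* `fac_of`, `sec_of` : `S88.Dat` gives `Fac`, `S88.Dat` and `S88.Fr` give `Sec`;
* `Star n T d` : the classes not adjacent to the characteristic;
* `survivors_of` (all characteristics) : if the classes of `Star` occur in `|S|`, then `S` is one of `S88.Surv`;
* `in_star_two` : the classes of `Star` occur in `|S|` in characteristic two, `S` not `A₇`, `L₂(odd)`.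
-/

set_option autoImplicit false

namespace Cfsg.Agent.H200.STwo

open Cfsg Cfsg.Agent.OrdDiv Cfsg.Agent.H436 Cfsg.Agent.H425.PartP Cfsg.Agent.H425.Chr
open Cfsg.Agent.H390 (NA)
open Cfsg.Agent.H403

universe u v w

/-- the classes of the primes of `|L|` -/
def KT (n : ℕ) : S88.Ty → ℕ → Prop
  | .c => KC n
  | .b => KC n
  | .pl => KP n
  | .mi => KM n

theorem Fac.congr {L : Type u} {L' : Type v} [Group L] [Group L'] (e : L' ≃* L) {p m N : ℕ} {KL : ℕ → Prop}
    (T : Fac L p m N KL) : Fac L' p m N KL := by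
  refine ⟨T.hp, T.hm, ?_, ?_⟩
  · intro r s er es ηr ηs h1 h2 h3 h4 h5 h6 h7 h8 h9 h10 h11 h12 h13 g hg
    refine T.na r s er es ηr ηs h1 h2 h3 h4 h5 h6 h7 h8 h9 h10 h11 h12 h13 (e g) ?_
    rw [MulEquiv.orderOf_eq]
    exact hg
  · rw [Nat.card_congr e.toEquiv]
    exact T.cls

variable {p n k : ℕ} {T : S88.Ty} {L : Type u} [Group L] {G : Type v} [Group G]

theorem fac_of (D : S88.Dat p T n k L G) : Fac L p k n (KT n T) := by
  have hn := D.hn
  have hL := D.hL
  cases T with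
  | c =>
    obtain ⟨-, -, F, _, _, _, hF, ⟨e⟩⟩ := hL
    exact (fac_psp D.hp D.hk hF (by omega)).congr e
  | b =>
    obtain ⟨-, ho, F, _, _, _, hF, ⟨e⟩⟩ := hL
    exact (fac_oodd D.hp D.hk hF (by omega) (by rwa [hF])).congr e
  | pl =>
    obtain ⟨-, F, _, _, _, hF, ⟨e⟩⟩ := hL
    exact (fac_oplus D.hp D.hk hF (by omega)).congr e
  | mi =>
    obtain ⟨-, F, _, _, _, a, b, hF, hab, ⟨e⟩⟩ := hL
    exact (fac_ominus D.hp D.hk hF (by omega) hab).congr e

section Sec

variable [Finite L] [Finite G] {K : Subgroup G} [K.Normal] {S : Subgroup (G ⧸ K)}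

omit [Finite L] [Finite G] in
theorem card_split (K : Subgroup G) [K.Normal] (S : Subgroup (G ⧸ K)) :
    Nat.card G = Nat.card ↥K * (Nat.card ↥S * S.index) := by
  rw [Subgroup.card_mul_index, mul_comm, ← Subgroup.card_eq_card_quotient_mul_card_subgroup]

omit [Finite L] [Finite G] in
theorem dvd_card_of_dvd_sec {w : ℕ} (h : w ∣ Nat.card ↥S) : w ∣ Nat.card G := by
  rw [card_split K S]
  exact (h.mul_right _).mul_left _

/-- the primes of `|L|` and `|G|` -/
theorem dvd_iff_of (hsp : ∀ m : ℕ, (∃ g : G, orderOf g = m) ↔ ∃ g : L, orderOf g = m) {w : ℕ} (hw : w.Prime) :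
    w ∣ Nat.card G ↔ w ∣ Nat.card L := by
  have := Fact.mk hw
  constructor
  · intro h
    obtain ⟨g, hg⟩ := (hsp w).1 (exists_prime_orderOf_dvd_card' w h)
    rw [← hg]
    exact orderOf_dvd_natCard g
  · intro h
    obtain ⟨g, hg⟩ := (hsp w).2 (exists_prime_orderOf_dvd_card' w h)
    rw [← hg]
    exact orderOf_dvd_natCard g

omit [Finite G] in
theorem dvd_sec {w : ℕ} (hw : w.Prime) (h : w ∣ Nat.card G) (h1 : ¬ w ∣ Nat.card ↥K * S.index) : w ∣ Nat.card ↥S := by
  rw [card_split K S] at h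
  rcases hw.dvd_mul.1 h with h | h
  · exact absurd (h.mul_right _) h1
  · rcases hw.dvd_mul.1 h with h | h
    · exact h
    · exact absurd (h.mul_left _) h1

theorem sec_of (hsp : ∀ m : ℕ, (∃ g : G, orderOf g = m) ↔ ∃ g : L, orderOf g = m) (R : S88.Fr K S) :
    Sec L (Nat.card ↥S) := by
  refine ⟨fun w hw h => (dvd_iff_of hsp hw).1 (dvd_card_of_dvd_sec h), ?_⟩
  intro r s t hr hs ht hrL hsL htL hrs hrt hst h1 h2 h3
  have h4 := R.coc r s t hr hs ht ((dvd_iff_of hsp hr).2 hrL) ((dvd_iff_of hsp hs).2 hsL) ((dvd_iff_of hsp ht).2 htL)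
    hrs hrt hst (fun h => h1 ((hsp _).1 h)) (fun h => h2 ((hsp _).1 h)) (fun h => h3 ((hsp _).1 h))
  by_contra hcon
  rw [not_or] at hcon
  apply h4
  constructor
  · by_contra h5
    exact hcon.1 (dvd_sec hr ((dvd_iff_of hsp hr).2 hrL) h5)
  · by_contra h5
    exact hcon.2 (dvd_sec hs ((dvd_iff_of hsp hs).2 hsL) h5)

end Sec

/-- the classes not adjacent to the characteristic that are used -/
def Star (n : ℕ) : S88.Ty → ℕ → Prop
  | .c, d => d = 2 * n ∨ (n % 2 = 1 ∧ d = n)
  | .b, d => d = 2 * n ∨ (n % 2 = 1 ∧ d = n)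
  | .pl, d => d = 2 * (n - 1) ∨ (n % 2 = 1 ∧ d = n) ∨ (n % 2 = 0 ∧ d = n - 1)
  | .mi, d => d = 2 * n ∨ (n % 2 = 1 ∧ d = 2 * (n - 1))

theorem Star.five_le {d : ℕ} (hn : 5 ≤ n) (h : Star n T d) : 5 ≤ d := by
  cases T <;> simp only [Star] at h <;> omega

theorem Star.kt {d : ℕ} (hn : 5 ≤ n) (h : Star n T d) : KT n T d := by
  cases T <;> simp only [Star, KT, KC, KP, KM] at h ⊢ <;> omega

theorem star_ne_six {d m : ℕ} (hn : 5 ≤ n) (h : Star n T d) : d * m ≠ 6 := by
  intro h6
  have h1 := h.five_le hn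
  have h2 : d ∣ 6 := Dvd.intro _ h6
  have h3 := Nat.le_of_dvd (by norm_num) h2
  have h4 : d = 5 ∨ d = 6 := by omega
  rcases h4 with rfl | rfl
  · exact absurd h2 (by decide)
  cases T <;> simp only [Star] at h <;> omega

/-- the two tags -/
theorem fam_of_nm (hp : p.Prime) {f f' : ℕ} {a b : H426.LieFam.Fam} (h : nm (p ^ f) a = nm (p ^ f') b) :
    f = f' ∧ a = b := by
  obtain ⟨h1, h2⟩ := nm_inj h
  exact ⟨Nat.pow_right_injective hp.two_le h1, h2⟩

section Main

variable [Finite L] [Finite G] {K : Subgroup G} [K.Normal] {S : Subgroup (G ⧸ K)}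

/-- **The survivors of the exponent comparison.** -/
theorem survivors_of (D : S88.Dat p T n k L G) (R : S88.Fr K S) (hl : IsLieTypeChar p ↥S)
    (hst : ∀ d, Star n T d → In p (Nat.card ↥S) (d * k)) :
    ∃ f fam, 1 ≤ f ∧ H426.LieFam.Fam.Is p f ↥S fam ∧ S88.Surv n k T f fam := by
  obtain ⟨fam, f, d, N, hIs, hSh⟩ := H426.LieFam.exists_fam D.hp hl
  have H := dat_of_is D.hp hSh.f_pos hIs
  have F := fac_of D
  have Q := sec_of D.hsp R
  have hn := D.hn
  have hk := D.hk
  have hp := D.hp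
  refine ⟨f, fam, hSh.f_pos, hIs, ?_⟩
  have hodd : ∀ n, 5 ≤ n → n % 2 = 1 → Side p n k (Nat.card ↥S) → In p (Nat.card ↥S) (n * k) →
      (f = 2 * k ∧ fam = .psl n) ∨ (f = k ∧ fam = .psp n) ∨ (f = k ∧ fam = .oodd n) ∨ (f = k ∧ fam = .oplus (n + 1)) ∨
      (n = 9 ∧ f = k ∧ fam = .e7) := by
    intro n _ hn2 P h
    rcases P.odd H hn2 h with h | h | h | h | ⟨h9, h⟩
    · exact Or.inl (fam_of_nm hp (b := .psl n) h)
    · exact Or.inr (Or.inl (fam_of_nm hp (b := .psp n) h))
    · exact Or.inr (Or.inr (Or.inl (fam_of_nm hp (b := .oodd n) h)))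
    · exact Or.inr (Or.inr (Or.inr (Or.inl (fam_of_nm hp (b := .oplus (n + 1)) h))))
    · exact Or.inr (Or.inr (Or.inr (Or.inr ⟨h9, fam_of_nm hp (b := .e7) h⟩)))
  have heven : n % 2 = 0 → Side p n k (Nat.card ↥S) → (f = 2 * k ∧ fam = .psl n) ∨ (f = k ∧ fam = .psp n) ∨
      (f = k ∧ fam = .oodd n) ∨ (f = k ∧ fam = .ominus n) := by
    intro hn2 P
    rcases P.even H hn2 with h | h | h | h
    · exact Or.inl (fam_of_nm hp (b := .psl n) h)
    · exact Or.inr (Or.inl (fam_of_nm hp (b := .psp n) h))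
    · exact Or.inr (Or.inr (Or.inl (fam_of_nm hp (b := .oodd n) h)))
    · exact Or.inr (Or.inr (Or.inr (fam_of_nm hp (b := .ominus n) h)))
  cases T with
  | c =>
    have P : Side p n k (Nat.card ↥S) := Q.side F hn (Or.inl rfl) (fun d _ h => h)
      (fun d h => by simp only [KT, MS, KC] at h ⊢; omega) (show KC n 6 from Or.inl ⟨rfl, by omega⟩) (hst _ (Or.inl rfl))
    rcases Nat.mod_two_eq_zero_or_one n with h | h
    · rcases heven h P with ⟨rfl, rfl⟩ | ⟨rfl, rfl⟩ | ⟨rfl, rfl⟩ | ⟨rfl, rfl⟩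
      · exact .c_psl
      · exact .c_psp
      · exact .c_oodd
      · exact .c_ominus (Nat.even_iff.2 h)
    · rcases hodd n hn h P (hst _ (Or.inr ⟨h, rfl⟩)) with ⟨rfl, rfl⟩ | ⟨rfl, rfl⟩ | ⟨rfl, rfl⟩ | ⟨rfl, rfl⟩ | ⟨h9, rfl, rfl⟩
      · exact .c_psl
      · exact .c_psp
      · exact .c_oodd
      · exact .c_oplus (Nat.odd_iff.2 h)
      · exact .c_e7 h9
  | b =>
    have P : Side p n k (Nat.card ↥S) := Q.side F hn (Or.inl rfl) (fun d _ h => h)
      (fun d h => by simp only [KT, MS, KC] at h ⊢; omega) (show KC n 6 from Or.inl ⟨rfl, by omega⟩) (hst _ (Or.inl rfl))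
    rcases Nat.mod_two_eq_zero_or_one n with h | h
    · rcases heven h P with ⟨rfl, rfl⟩ | ⟨rfl, rfl⟩ | ⟨rfl, rfl⟩ | ⟨rfl, rfl⟩
      · exact .b_psl
      · exact .b_psp
      · exact .b_oodd
      · exact .b_ominus (Nat.even_iff.2 h)
    · rcases hodd n hn h P (hst _ (Or.inr ⟨h, rfl⟩)) with ⟨rfl, rfl⟩ | ⟨rfl, rfl⟩ | ⟨rfl, rfl⟩ | ⟨rfl, rfl⟩ | ⟨h9, rfl, rfl⟩
      · exact .b_psl
      · exact .b_psp
      · exact .b_oodd
      · exact .b_oplus (Nat.odd_iff.2 h)
      · exact .b_e7 h9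
  | pl =>
    rcases Nat.mod_two_eq_zero_or_one n with h | h
    · have P : Side p (n - 1) k (Nat.card ↥S) := Q.side F (by omega) (Or.inr ⟨by omega, by omega⟩)
        (fun d h1 h2 => by simp only [KT, KP, KC] at h2 ⊢; omega)
        (fun d h1 => by simp only [KT, MS, KP] at h1 ⊢; omega) (show KP n 6 from Or.inl ⟨rfl, by omega⟩) (hst _ (Or.inl rfl))
      have hn1 : n - 1 + 1 = n := by omega
      rcases hodd (n - 1) (by omega) (by omega) P (hst _ (Or.inr (Or.inr ⟨h, rfl⟩))) with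
        ⟨rfl, rfl⟩ | ⟨rfl, rfl⟩ | ⟨rfl, rfl⟩ | ⟨rfl, rfl⟩ | ⟨h9, rfl, rfl⟩
      · exact .p_psl (Nat.even_iff.2 h)
      · exact .p_psp (Nat.even_iff.2 h)
      · exact .p_oodd (Nat.even_iff.2 h)
      · rw [hn1]
        exact .p_oplus
      · exact .p_e7 (by omega)
    · obtain ⟨h1, h2⟩ := (Q.sideP F hn h (hst _ (Or.inl rfl)) (hst _ (Or.inr (Or.inl ⟨h, rfl⟩)))).main H
      subst h1
      obtain ⟨-, rfl⟩ := fam_of_nm hp (b := .oplus n) h2
      exact .p_oplus
  | mi =>
    have P : Side p n k (Nat.card ↥S) := Q.side F hn (Or.inl rfl)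
      (fun d _ h => by simp only [KT, KM, KC] at h ⊢; omega)
      (fun d h => by simp only [KT, MS, KM] at h ⊢; omega) (show KM n 6 from Or.inl ⟨rfl, by omega⟩) (hst _ (Or.inl rfl))
    rcases Nat.mod_two_eq_zero_or_one n with h | h
    · rcases heven h P with ⟨rfl, rfl⟩ | ⟨rfl, rfl⟩ | ⟨rfl, rfl⟩ | ⟨rfl, rfl⟩
      · exact .m_psl (Nat.even_iff.2 h)
      · exact .m_psp (Nat.even_iff.2 h)
      · exact .m_oodd (Nat.even_iff.2 h)
      · exact .m_ominus
    · have hno : ¬ In p (Nat.card ↥S) (n * k) := by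
        intro hin
        have h0 := Q.ppd F (K0 := fun d => d < 3 ∨ KM n d) (fun d _ h => Or.inr h) (fun d h => Or.inl h) (n * k)
          (by
            have : 5 * 1 ≤ n * k := Nat.mul_le_mul hn hk
            omega) hin
        rw [Nat.gcd_eq_right (Dvd.intro_left _ rfl), Nat.mul_div_cancel _ (by omega)] at h0
        simp only [KM] at h0
        omega
      have h2 := P.minus H h (hst _ (Or.inr ⟨h, rfl⟩)) hno
      obtain ⟨rfl, rfl⟩ := fam_of_nm hp (b := .ominus n) h2
      exact .m_ominus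

/-- the classes of `Star` occur in `|S|`, characteristic two -/
theorem in_star_two (D : S88.Dat 2 T n k L G) (R : S88.Fr K S)
    (hA : ¬ (Nonempty (↥S ≃* alternatingGroup (Fin 7)) ∨
      ∃ (F : Type) (_ : Field F) (_ : Fintype F), Odd (Fintype.card F) ∧
        Nonempty (↥S ≃* Matrix.ProjectiveSpecialLinearGroup (Fin 2) F))) {d : ℕ} (hd : Star n T d) :
    In 2 (Nat.card ↥S) (d * k) := by
  have hn := D.hn
  have hk := D.hk
  have hd5 := hd.five_le hn
  have hdk : 5 * 1 ≤ d * k := Nat.mul_le_mul hd5 hk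
  obtain ⟨w, hw⟩ := exists_prim_two Nat.prime_two (e := d * k) (by omega) (star_ne_six hn hd)
  have F := fac_of D
  have hwL : w ∣ Nat.card L := F.dvd_of hw (by omega) (hd.kt hn)
  have hwG : w ∣ Nat.card G := (dvd_iff_of D.hsp hw.prime).2 hwL
  refine ⟨w, hw, ?_⟩
  have hna : ¬ ∃ g : L, orderOf g = 2 * w := by
    have hL := D.hL
    have tr : ∀ {L' : Type} [Group L'], (L ≃* L') → (¬ ∃ g : L', orderOf g = 2 * w) → ¬ ∃ g : L, orderOf g = 2 * w := by
      rintro L' _ e h ⟨g, hg⟩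
      exact h ⟨e g, by rw [MulEquiv.orderOf_eq]; exact hg⟩
    cases T with
    | c =>
      obtain ⟨-, -, F, _, _, _, hF, ⟨e⟩⟩ := hL
      refine tr e (chr_psp Nat.prime_two hk hF (by omega) ?_ hw)
      simp only [Star] at hd
      omega
    | b =>
      obtain ⟨-, ho, -⟩ := hL
      exfalso
      rw [Nat.odd_iff] at ho
      have : 2 ∣ 2 ^ k := dvd_pow_self 2 (by omega)
      omega
    | pl =>
      obtain ⟨-, F, _, _, _, hF, ⟨e⟩⟩ := hL
      refine tr e (two_oplus hk hF (by omega) ?_ hw)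
      simp only [Star] at hd
      omega
    | mi =>
      obtain ⟨-, F, _, _, _, a, b, hF, hab, ⟨e⟩⟩ := hL
      refine tr e (two_ominus hk hF (by omega) hab ?_ hw)
      simp only [Star] at hd
      omega
  rcases R.two with h | h
  · exact absurd h hA
  · obtain ⟨h1, h2⟩ := h w hw.prime (prim_ne_two hw (by omega)) hwG (fun h => hna ((D.hsp _).1 h))
    exact dvd_sec hw.prime hwG fun h => (hw.prime.dvd_mul.1 h).elim h1 h2

/-- **Survivors in characteristic two** -/
theorem survivors_two (D : S88.Dat 2 T n k L G) (R : S88.Fr K S) (hl : IsLieTypeChar 2 ↥S)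
    (hA : ¬ (Nonempty (↥S ≃* alternatingGroup (Fin 7)) ∨
      ∃ (F : Type) (_ : Field F) (_ : Fintype F), Odd (Fintype.card F) ∧
        Nonempty (↥S ≃* Matrix.ProjectiveSpecialLinearGroup (Fin 2) F))) :
    ∃ f fam, 1 ≤ f ∧ H426.LieFam.Fam.Is 2 f ↥S fam ∧ S88.Surv n k T f fam :=
  survivors_of D R hl fun _ hd => in_star_two D R hA hd

/-- a large prime of `|S|` -/
theorem big_prime (D : S88.Dat p T n k L G) (R : S88.Fr K S) : ∃ w, w.Prime ∧ 8 ≤ w ∧ w ∣ Nat.card ↥S := by
  have F := fac_of D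
  have Q := sec_of D.hsp R
  have hn := D.hn
  have hk := D.hk
  have key : ∀ a, 5 ≤ a → a ≠ 6 → In p (Nat.card ↥S) (a * k) → ∃ w, w.Prime ∧ 8 ≤ w ∧ w ∣ Nat.card ↥S := by
    intro a ha ha6 ⟨w, hw, h⟩
    refine ⟨w, hw.prime, ?_, h⟩
    have h1 := H426.LieFam.Prim_lt hw
    have h2 := H426.LieFam.Prim_dvd_pred hw
    have h3 : a * 1 ≤ a * k := Nat.mul_le_mul_left _ hk
    by_contra h8
    have h4 : w - 1 < 7 := by omega
    have h5 : a ∣ w - 1 := (Dvd.intro _ rfl).trans h2
    have h6 := Nat.le_of_dvd (by omega) h5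
    have h7 : a = 5 := by omega
    subst h7
    have h9 : w = 6 := by omega
    subst h9
    exact absurd hw.prime (by norm_num)
  have em : ∀ {a : ℕ}, 5 ≤ a → a ≠ 6 → a * k ≠ 6 := by
    intro a h1 h2 h
    have h3 : a ∣ 6 := Dvd.intro _ h
    have h4 := Nat.le_of_dvd (by norm_num) h3
    have h5 : a = 5 := by omega
    subst h5
    exact absurd h3 (by decide)
  have e5 : eta 5 = 5 := rfl
  have e3 : eta 3 = 3 := rfl
  have e6 : eta 6 = 3 := rfl
  have e8 : eta 8 = 4 := rfl
  have e10 : eta 10 = 5 := rfl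
  rcases Nat.lt_or_ge n 6 with h | h
  · obtain rfl : n = 5 := by omega
    have key5 : ∀ a b, 5 ≤ a → a ≠ 6 → 5 ≤ b → b ≠ 6 → KT 5 T a → KT 5 T b → KT 5 T 6 → KT 5 T 3 → 5 < eta a + eta b →
        5 < eta a + 3 → 5 < eta b + 3 → Rat a b → Rat a 6 → Rat b 6 → Rat a 3 → Rat b 3 →
        ∃ w, w.Prime ∧ 8 ≤ w ∧ w ∣ Nat.card ↥S := by
      intro a b ha ha6 hb hb6 ka kb k6 k3 hab ha3 hb3 rab ra6 rb6 ra3 rb3
      have h1 : In p (Nat.card ↥S) (a * k) ∨ In p (Nat.card ↥S) (b * k) := by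
        by_cases hk1 : k = 1
        · exact Q.miss F (by norm_num) (j := 3) (by omega) (by omega) (by omega) ka kb k3 hab (by omega) (by omega) rab
            ra3 rb3 (em ha ha6) (em hb hb6) (by omega)
        · exact Q.miss F (by norm_num) (j := 6) (by omega) (by omega) (by omega) ka kb k6 hab (by omega) (by omega) rab
            ra6 rb6 (em ha ha6) (em hb hb6) (by omega)
      exact h1.elim (key a ha ha6) (key b hb hb6)
    cases T with
    | pl =>
      exact key5 8 5 (by omega) (by omega) (by omega) (by omega) (Or.inl (by omega)) (Or.inr (by omega))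
        (Or.inl (by omega)) (Or.inr (by omega)) (by omega) (by omega) (by omega) (rat_of_lt (by omega) (by omega))
        (rat_of_lt (by omega) (by omega)) (rat_of_lt (by omega) (by omega)).symm (rat_of_lt (by omega) (by omega))
        (rat_of_lt (by omega) (by omega))
    | _ =>
      exact key5 10 8 (by omega) (by omega) (by omega) (by omega) (Or.inl (by omega)) (Or.inl (by omega))
        (Or.inl (by omega)) (Or.inr (by omega)) (by omega) (by omega) (by omega) (rat_of_lt (by omega) (by omega))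
        (rat_of_lt (by omega) (by omega)) (rat_of_lt (by omega) (by omega))
        (rat_of_parity (by omega) (by omega) (by omega) (by omega)) (rat_of_lt (by omega) (by omega))
  · have ka : KT n T (2 * (n - 1)) := by
      cases T <;> exact Or.inl (by omega)
    have kb : KT n T (2 * (n - 2)) := by
      cases T <;> exact Or.inl (by omega)
    have ea := eta_cases (2 * (n - 1))
    have eb := eta_cases (2 * (n - 2))
    have h1 : In p (Nat.card ↥S) (2 * (n - 1) * k) ∨ In p (Nat.card ↥S) (2 * (n - 2) * k) := by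
      by_cases h67 : n = 6
      · subst h67
        have k5 : KT 6 T 5 := by
          cases T <;> exact Or.inr (by omega)
        exact Q.miss F (by norm_num) (j := 5) (by omega) (by omega) (by omega) ka kb k5 (by omega) (by omega) (by omega)
          (rat_of_lt (by omega) (by omega)) (rat_of_parity (by omega) (by omega) (by omega) (by omega))
          (rat_of_lt (by omega) (by omega)) (em (by omega) (by omega)) (em (by omega) (by omega))
          (em (by omega) (by omega))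
      · have kj : KT n T (2 * (n - 3)) := by
          cases T <;> exact Or.inl (by omega)
        have ej := eta_cases (2 * (n - 3))
        exact Q.miss F (by omega) (by omega) (by omega) (by omega) ka kb kj (by omega) (by omega) (by omega)
          (rat_of_lt (by omega) (by omega)) (rat_of_lt (by omega) (by omega))
          (rat_of_lt (by omega) (by omega)) (em (by omega) (by omega)) (em (by omega) (by omega))
          (em (by omega) (by omega))
    exact h1.elim (key _ (by omega) (by omega)) (key _ (by omega) (by omega))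

end Main

end Cfsg.Agent.H200.STwo
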